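import Mathlib
import Cfsg.Agent.H23.Ly.Data.Tab0
import Cfsg.Agent.H23.Ly.Data.Tab1

/-!
Images of the points under all letters (generated data).
-/

set_option autoImplicit false
set_option maxRecDepth 100000
set_option linter.all false
set_option Elab.async false

namespace H23
namespace Ly
namespace Data

noncomputable section

def sel_0_2 (l c : ℕ) : ℕ := Bool.rec (motive := fun _ => ℕ) (t1 c) (t0 c) (Nat.blt l 1)
def sel_3_5 (l c : ℕ) : ℕ := Bool.rec (motive := fun _ => ℕ) (t4 c) (t3 c) (Nat.blt l 4)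
def sel_2_5 (l c : ℕ) : ℕ := Bool.rec (motive := fun _ => ℕ) (sel_3_5 l c) (t2 c) (Nat.blt l 3)
def sel_0_5 (l c : ℕ) : ℕ := Bool.rec (motive := fun _ => ℕ) (sel_2_5 l c) (sel_0_2 l c) (Nat.blt l 2)
def sel_6_8 (l c : ℕ) : ℕ := Bool.rec (motive := fun _ => ℕ) (t7 c) (t6 c) (Nat.blt l 7)
def sel_5_8 (l c : ℕ) : ℕ := Bool.rec (motive := fun _ => ℕ) (sel_6_8 l c) (t5 c) (Nat.blt l 6)
def sel_9_11 (l c : ℕ) : ℕ := Bool.rec (motive := fun _ => ℕ) (t10 c) (t9 c) (Nat.blt l 10)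
def sel_8_11 (l c : ℕ) : ℕ := Bool.rec (motive := fun _ => ℕ) (sel_9_11 l c) (t8 c) (Nat.blt l 9)
def sel_5_11 (l c : ℕ) : ℕ := Bool.rec (motive := fun _ => ℕ) (sel_8_11 l c) (sel_5_8 l c) (Nat.blt l 8)
def sel_0_11 (l c : ℕ) : ℕ := Bool.rec (motive := fun _ => ℕ) (sel_5_11 l c) (sel_0_5 l c) (Nat.blt l 5)
def sel_11_13 (l c : ℕ) : ℕ := Bool.rec (motive := fun _ => ℕ) (t12 c) (t11 c) (Nat.blt l 12)
def sel_14_16 (l c : ℕ) : ℕ := Bool.rec (motive := fun _ => ℕ) (t15 c) (t14 c) (Nat.blt l 15)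
def sel_13_16 (l c : ℕ) : ℕ := Bool.rec (motive := fun _ => ℕ) (sel_14_16 l c) (t13 c) (Nat.blt l 14)
def sel_11_16 (l c : ℕ) : ℕ := Bool.rec (motive := fun _ => ℕ) (sel_13_16 l c) (sel_11_13 l c) (Nat.blt l 13)
def sel_17_19 (l c : ℕ) : ℕ := Bool.rec (motive := fun _ => ℕ) (t18 c) (t17 c) (Nat.blt l 18)
def sel_16_19 (l c : ℕ) : ℕ := Bool.rec (motive := fun _ => ℕ) (sel_17_19 l c) (t16 c) (Nat.blt l 17)
def sel_20_22 (l c : ℕ) : ℕ := Bool.rec (motive := fun _ => ℕ) (t21 c) (t20 c) (Nat.blt l 21)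
def sel_19_22 (l c : ℕ) : ℕ := Bool.rec (motive := fun _ => ℕ) (sel_20_22 l c) (t19 c) (Nat.blt l 20)
def sel_16_22 (l c : ℕ) : ℕ := Bool.rec (motive := fun _ => ℕ) (sel_19_22 l c) (sel_16_19 l c) (Nat.blt l 19)
def sel_11_22 (l c : ℕ) : ℕ := Bool.rec (motive := fun _ => ℕ) (sel_16_22 l c) (sel_11_16 l c) (Nat.blt l 16)
def sel_0_22 (l c : ℕ) : ℕ := Bool.rec (motive := fun _ => ℕ) (sel_11_22 l c) (sel_0_11 l c) (Nat.blt l 11)
def T (l c : ℕ) : ℕ := Bool.rec (motive := fun _ => ℕ) c (sel_0_22 l c) (Nat.blt l 22)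
/-- every number in a range passes -/
def rng (f : ℕ → Bool) (lo len : ℕ) : Bool :=
  Nat.rec (motive := fun _ => Bool) true (fun m ih => Bool.rec (motive := fun _ => Bool) false ih (f (Nat.add lo m))) len
end

end Data
end Ly
end H23
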