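import Mathlib
import Cfsg.Agent.H23.Ly.Data.Tab
import Cfsg.Agent.H77.HN.Words

/-!
Soundness of the checks over ranges (generated data).
-/

set_option autoImplicit false
set_option maxRecDepth 100000
set_option linter.all false
set_option Elab.async false

namespace H23
namespace Ly
namespace Data

noncomputable section

open H77.HN (frc frc_eq run)

theorem rng_spec {f : ℕ → Bool} {lo : ℕ} : ∀ {len : ℕ}, rng f lo len = true →
    ∀ c, lo ≤ c → c < lo + len → f c = true := by
  intro len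
  induction len with
  | zero => intro _ c h1 h2; omega
  | succ m ih =>
    intro h c h1 h2
    have hh : Bool.rec (motive := fun _ => Bool) false (rng f lo m) (f (lo + m)) = true := h
    cases hf : f (lo + m) <;> rw [hf] at hh
    · exact absurd hh (by simp)
    rcases Nat.lt_succ_iff_lt_or_eq.mp (show c < (lo + m) + 1 by omega) with h3 | h3
    · exact ih hh c h1 h3
    · exact h3 ▸ hf

theorem T0 (c : ℕ) : T 0 c = t0 c := rfl
theorem T1 (c : ℕ) : T 1 c = t1 c := rfl
theorem T2 (c : ℕ) : T 2 c = t2 c := rfl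
theorem T3 (c : ℕ) : T 3 c = t3 c := rfl
theorem T4 (c : ℕ) : T 4 c = t4 c := rfl
theorem T5 (c : ℕ) : T 5 c = t5 c := rfl
theorem T6 (c : ℕ) : T 6 c = t6 c := rfl
theorem T7 (c : ℕ) : T 7 c = t7 c := rfl
theorem T8 (c : ℕ) : T 8 c = t8 c := rfl
theorem T9 (c : ℕ) : T 9 c = t9 c := rfl
theorem T10 (c : ℕ) : T 10 c = t10 c := rfl
theorem T11 (c : ℕ) : T 11 c = t11 c := rfl
theorem T12 (c : ℕ) : T 12 c = t12 c := rfl
theorem T13 (c : ℕ) : T 13 c = t13 c := rfl
theorem T14 (c : ℕ) : T 14 c = t14 c := rfl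
theorem T15 (c : ℕ) : T 15 c = t15 c := rfl
theorem T16 (c : ℕ) : T 16 c = t16 c := rfl
theorem T17 (c : ℕ) : T 17 c = t17 c := rfl
theorem T18 (c : ℕ) : T 18 c = t18 c := rfl
theorem T19 (c : ℕ) : T 19 c = t19 c := rfl
theorem T20 (c : ℕ) : T 20 c = t20 c := rfl
theorem T21 (c : ℕ) : T 21 c = t21 c := rfl
end

end Data
end Ly
end H23
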