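import Mathlib

/-!
The relators as words (generated data).
-/

set_option autoImplicit false
set_option maxRecDepth 100000
set_option linter.all false
set_option Elab.async false

namespace H23
namespace Ly
namespace Data



noncomputable section

def w0 : List ℕ := [1,1,1,1,1,1,1,1]
def w1 : List ℕ := [3,3,3,3,3]
def w2 : List ℕ := [3,1,3,1,3,1,3,1]
def w3 : List ℕ := [3,1,1,2,0,0]
def w4 : List ℕ := [3,1,2,0,3,1,2,0,3,1,2,0]
def w5 : List ℕ := [5,5,5,5,5]
def w6 : List ℕ := [17,17,17,17,17]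
def w7 : List ℕ := [17,5,16,4]
def w8 : List ℕ := [17,11,16,10]
def w9 : List ℕ := [17,13,16,12]
def w10 : List ℕ := [17,15,16,14]
def w11 : List ℕ := [17,17,13,5,12,4]
def w12 : List ℕ := [16,16,15,5,14,4]
def w13 : List ℕ := [17,13,11,12,10]
def w14 : List ℕ := [15,11,14,10]
def w15 : List ℕ := [17,15,13,14,12]
def w16 : List ℕ := [5,5,1,11,0]
def w17 : List ℕ := [13,13,4,14,1,13,0]
def w18 : List ℕ := [4,11,13,14,4,14,1,15,0]
def w19 : List ℕ := [16,16,1,17,0]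
def w20 : List ℕ := [10,12,15,5,15,3,11,2]
def w21 : List ℕ := [4,4,14,13,13,3,13,2]
def w22 : List ℕ := [16,3,17,2]
def w23 : List ℕ := [9,9]
def w24 : List ℕ := [2,12,2,5,9,5,8]
def w25 : List ℕ := [2,2,0,10,5,15,1,9,13,8]
def w26 : List ℕ := [2,2,13,14,9,15,8]
def w27 : List ℕ := [4,13,4,15,9,17,8]
def w28 : List ℕ := [0,2,2,0,3,0,4,16,15,9,1,1,9]
def w29 : List ℕ := [4,13,15,15,9,3,8]
def w30 : List ℕ := [1,1,1,13,1,14,11,9,10,9,11,9]
def w31 : List ℕ := [0,2,2,1,3,5,15,17,0,8,0,8,0,11,2,8,7]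
def w32 : List ℕ := [7,3,6,2]
def w33 : List ℕ := [0,0,0,7,1,6]
end

end Data
end Ly
end H23
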