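import Mathlib
import Cfsg.Agent.H23.Ly.Data.Rng
import Cfsg.Agent.H23.Ly.Data.RelWords

/-!
Derived letters are their words (generated data).
-/

set_option autoImplicit false
set_option maxRecDepth 100000
set_option linter.all false
set_option Elab.async false

namespace H23
namespace Ly
namespace Data

noncomputable section

open H77.HN (frc frc_eq run)

def letter8_f : ℕ → Bool := fun c => frc (t3 c) fun d1 => frc (t3 d1) fun d2 => frc (t1 d2) fun d3 => frc (t5 d3) fun d4 => frc (t0 d4) fun d5 => frc (t4 d5) fun d6 => frc (t1 d6) fun d7 => frc (t4 d7) fun d8 => frc (t0 d8) fun d9 => frc (t6 d9) fun d10 => frc (t4 d10) fun d11 => frc (t2 d11) fun d12 => frc (t0 d12) fun d13 => frc (t3 d13) fun d14 => frc (t6 d14) fun d15 => frc (t4 d15) fun d16 => frc (t6 d16) fun d17 => Nat.beq d17 (t8 c)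
theorem letter8_0 : rng letter8_f 0 2442 = true := by decide +kernel
theorem letter8_1 : rng letter8_f 2442 2442 = true := by decide +kernel
theorem letter8_2 : rng letter8_f 4884 2442 = true := by decide +kernel
theorem letter8_3 : rng letter8_f 7326 2442 = true := by decide +kernel
theorem letter8_4 : rng letter8_f 9768 2442 = true := by decide +kernel
theorem letter8_5 : rng letter8_f 12210 2442 = true := by decide +kernel
theorem letter8_6 : rng letter8_f 14652 2442 = true := by decide +kernel
theorem letter8_7 : rng letter8_f 17094 2436 = true := by decide +kernel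
theorem letter8_all (c : ℕ) (hc : c < 19530) : letter8_f c = true := by
  rcases Nat.lt_or_ge c 2442 with h0 | h0
  · exact rng_spec letter8_0 c (by omega) (by omega)
  rcases Nat.lt_or_ge c 4884 with h1 | h1
  · exact rng_spec letter8_1 c (by omega) (by omega)
  rcases Nat.lt_or_ge c 7326 with h2 | h2
  · exact rng_spec letter8_2 c (by omega) (by omega)
  rcases Nat.lt_or_ge c 9768 with h3 | h3
  · exact rng_spec letter8_3 c (by omega) (by omega)
  rcases Nat.lt_or_ge c 12210 with h4 | h4
  · exact rng_spec letter8_4 c (by omega) (by omega)
  rcases Nat.lt_or_ge c 14652 with h5 | h5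
  · exact rng_spec letter8_5 c (by omega) (by omega)
  rcases Nat.lt_or_ge c 17094 with h6 | h6
  · exact rng_spec letter8_6 c (by omega) (by omega)
  exact rng_spec letter8_7 c (by omega) (by omega)
theorem letter8 (c : ℕ) (hc : c < 19530) : run T [3,3,1,5,0,4,1,4,0,6,4,2,0,3,6,4,6] c = T 8 c := by
  have h := letter8_all c hc
  simp only [letter8_f, frc_eq, Nat.beq_eq] at h
  simpa [run, T0, T1, T2, T3, T4, T5, T6, T8, T10, T12, T14, T16, T18, T20] using h
def letter10_f : ℕ → Bool := fun c => frc (t1 c) fun d1 => frc (t4 d1) fun d2 => frc (t0 d2) fun d3 => Nat.beq d3 (t10 c)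
theorem letter10_0 : rng letter10_f 0 2442 = true := by decide +kernel
theorem letter10_1 : rng letter10_f 2442 2442 = true := by decide +kernel
theorem letter10_2 : rng letter10_f 4884 2442 = true := by decide +kernel
theorem letter10_3 : rng letter10_f 7326 2442 = true := by decide +kernel
theorem letter10_4 : rng letter10_f 9768 2442 = true := by decide +kernel
theorem letter10_5 : rng letter10_f 12210 2442 = true := by decide +kernel
theorem letter10_6 : rng letter10_f 14652 2442 = true := by decide +kernel
theorem letter10_7 : rng letter10_f 17094 2436 = true := by decide +kernel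
theorem letter10_all (c : ℕ) (hc : c < 19530) : letter10_f c = true := by
  rcases Nat.lt_or_ge c 2442 with h0 | h0
  · exact rng_spec letter10_0 c (by omega) (by omega)
  rcases Nat.lt_or_ge c 4884 with h1 | h1
  · exact rng_spec letter10_1 c (by omega) (by omega)
  rcases Nat.lt_or_ge c 7326 with h2 | h2
  · exact rng_spec letter10_2 c (by omega) (by omega)
  rcases Nat.lt_or_ge c 9768 with h3 | h3
  · exact rng_spec letter10_3 c (by omega) (by omega)
  rcases Nat.lt_or_ge c 12210 with h4 | h4
  · exact rng_spec letter10_4 c (by omega) (by omega)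
  rcases Nat.lt_or_ge c 14652 with h5 | h5
  · exact rng_spec letter10_5 c (by omega) (by omega)
  rcases Nat.lt_or_ge c 17094 with h6 | h6
  · exact rng_spec letter10_6 c (by omega) (by omega)
  exact rng_spec letter10_7 c (by omega) (by omega)
theorem letter10 (c : ℕ) (hc : c < 19530) : run T [1,4,0] c = T 10 c := by
  have h := letter10_all c hc
  simp only [letter10_f, frc_eq, Nat.beq_eq] at h
  simpa [run, T0, T1, T4, T8, T10, T12, T14, T16, T18, T20] using h
def letter12_f : ℕ → Bool := fun c => frc (t3 c) fun d1 => frc (t4 d1) fun d2 => frc (t2 d2) fun d3 => Nat.beq d3 (t12 c)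
theorem letter12_0 : rng letter12_f 0 2442 = true := by decide +kernel
theorem letter12_1 : rng letter12_f 2442 2442 = true := by decide +kernel
theorem letter12_2 : rng letter12_f 4884 2442 = true := by decide +kernel
theorem letter12_3 : rng letter12_f 7326 2442 = true := by decide +kernel
theorem letter12_4 : rng letter12_f 9768 2442 = true := by decide +kernel
theorem letter12_5 : rng letter12_f 12210 2442 = true := by decide +kernel
theorem letter12_6 : rng letter12_f 14652 2442 = true := by decide +kernel
theorem letter12_7 : rng letter12_f 17094 2436 = true := by decide +kernel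
theorem letter12_all (c : ℕ) (hc : c < 19530) : letter12_f c = true := by
  rcases Nat.lt_or_ge c 2442 with h0 | h0
  · exact rng_spec letter12_0 c (by omega) (by omega)
  rcases Nat.lt_or_ge c 4884 with h1 | h1
  · exact rng_spec letter12_1 c (by omega) (by omega)
  rcases Nat.lt_or_ge c 7326 with h2 | h2
  · exact rng_spec letter12_2 c (by omega) (by omega)
  rcases Nat.lt_or_ge c 9768 with h3 | h3
  · exact rng_spec letter12_3 c (by omega) (by omega)
  rcases Nat.lt_or_ge c 12210 with h4 | h4
  · exact rng_spec letter12_4 c (by omega) (by omega)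
  rcases Nat.lt_or_ge c 14652 with h5 | h5
  · exact rng_spec letter12_5 c (by omega) (by omega)
  rcases Nat.lt_or_ge c 17094 with h6 | h6
  · exact rng_spec letter12_6 c (by omega) (by omega)
  exact rng_spec letter12_7 c (by omega) (by omega)
theorem letter12 (c : ℕ) (hc : c < 19530) : run T [3,4,2] c = T 12 c := by
  have h := letter12_all c hc
  simp only [letter12_f, frc_eq, Nat.beq_eq] at h
  simpa [run, T2, T3, T4, T8, T10, T12, T14, T16, T18, T20] using h
def letter14_f : ℕ → Bool := fun c => frc (t2 c) fun d1 => frc (t4 d1) fun d2 => frc (t3 d2) fun d3 => Nat.beq d3 (t14 c)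
theorem letter14_0 : rng letter14_f 0 2442 = true := by decide +kernel
theorem letter14_1 : rng letter14_f 2442 2442 = true := by decide +kernel
theorem letter14_2 : rng letter14_f 4884 2442 = true := by decide +kernel
theorem letter14_3 : rng letter14_f 7326 2442 = true := by decide +kernel
theorem letter14_4 : rng letter14_f 9768 2442 = true := by decide +kernel
theorem letter14_5 : rng letter14_f 12210 2442 = true := by decide +kernel
theorem letter14_6 : rng letter14_f 14652 2442 = true := by decide +kernel
theorem letter14_7 : rng letter14_f 17094 2436 = true := by decide +kernel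
theorem letter14_all (c : ℕ) (hc : c < 19530) : letter14_f c = true := by
  rcases Nat.lt_or_ge c 2442 with h0 | h0
  · exact rng_spec letter14_0 c (by omega) (by omega)
  rcases Nat.lt_or_ge c 4884 with h1 | h1
  · exact rng_spec letter14_1 c (by omega) (by omega)
  rcases Nat.lt_or_ge c 7326 with h2 | h2
  · exact rng_spec letter14_2 c (by omega) (by omega)
  rcases Nat.lt_or_ge c 9768 with h3 | h3
  · exact rng_spec letter14_3 c (by omega) (by omega)
  rcases Nat.lt_or_ge c 12210 with h4 | h4
  · exact rng_spec letter14_4 c (by omega) (by omega)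
  rcases Nat.lt_or_ge c 14652 with h5 | h5
  · exact rng_spec letter14_5 c (by omega) (by omega)
  rcases Nat.lt_or_ge c 17094 with h6 | h6
  · exact rng_spec letter14_6 c (by omega) (by omega)
  exact rng_spec letter14_7 c (by omega) (by omega)
theorem letter14 (c : ℕ) (hc : c < 19530) : run T [2,4,3] c = T 14 c := by
  have h := letter14_all c hc
  simp only [letter14_f, frc_eq, Nat.beq_eq] at h
  simpa [run, T2, T3, T4, T8, T10, T12, T14, T16, T18, T20] using h
def letter16_f : ℕ → Bool := fun c => frc (t5 c) fun d1 => frc (t1 d1) fun d2 => frc (t5 d2) fun d3 => frc (t0 d3) fun d4 => frc (t4 d4) fun d5 => frc (t1 d5) fun d6 => frc (t4 d6) fun d7 => frc (t0 d7) fun d8 => Nat.beq d8 (t16 c)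
theorem letter16_0 : rng letter16_f 0 2442 = true := by decide +kernel
theorem letter16_1 : rng letter16_f 2442 2442 = true := by decide +kernel
theorem letter16_2 : rng letter16_f 4884 2442 = true := by decide +kernel
theorem letter16_3 : rng letter16_f 7326 2442 = true := by decide +kernel
theorem letter16_4 : rng letter16_f 9768 2442 = true := by decide +kernel
theorem letter16_5 : rng letter16_f 12210 2442 = true := by decide +kernel
theorem letter16_6 : rng letter16_f 14652 2442 = true := by decide +kernel
theorem letter16_7 : rng letter16_f 17094 2436 = true := by decide +kernel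
theorem letter16_all (c : ℕ) (hc : c < 19530) : letter16_f c = true := by
  rcases Nat.lt_or_ge c 2442 with h0 | h0
  · exact rng_spec letter16_0 c (by omega) (by omega)
  rcases Nat.lt_or_ge c 4884 with h1 | h1
  · exact rng_spec letter16_1 c (by omega) (by omega)
  rcases Nat.lt_or_ge c 7326 with h2 | h2
  · exact rng_spec letter16_2 c (by omega) (by omega)
  rcases Nat.lt_or_ge c 9768 with h3 | h3
  · exact rng_spec letter16_3 c (by omega) (by omega)
  rcases Nat.lt_or_ge c 12210 with h4 | h4
  · exact rng_spec letter16_4 c (by omega) (by omega)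
  rcases Nat.lt_or_ge c 14652 with h5 | h5
  · exact rng_spec letter16_5 c (by omega) (by omega)
  rcases Nat.lt_or_ge c 17094 with h6 | h6
  · exact rng_spec letter16_6 c (by omega) (by omega)
  exact rng_spec letter16_7 c (by omega) (by omega)
theorem letter16 (c : ℕ) (hc : c < 19530) : run T [5,1,5,0,4,1,4,0] c = T 16 c := by
  have h := letter16_all c hc
  simp only [letter16_f, frc_eq, Nat.beq_eq] at h
  simpa [run, T0, T1, T4, T5, T8, T10, T12, T14, T16, T18, T20] using h
def letter18_f : ℕ → Bool := fun c => frc (t2 c) fun d1 => frc (t0 d1) fun d2 => frc (t3 d2) fun d3 => Nat.beq d3 (t18 c)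
theorem letter18_0 : rng letter18_f 0 2442 = true := by decide +kernel
theorem letter18_1 : rng letter18_f 2442 2442 = true := by decide +kernel
theorem letter18_2 : rng letter18_f 4884 2442 = true := by decide +kernel
theorem letter18_3 : rng letter18_f 7326 2442 = true := by decide +kernel
theorem letter18_4 : rng letter18_f 9768 2442 = true := by decide +kernel
theorem letter18_5 : rng letter18_f 12210 2442 = true := by decide +kernel
theorem letter18_6 : rng letter18_f 14652 2442 = true := by decide +kernel
theorem letter18_7 : rng letter18_f 17094 2436 = true := by decide +kernel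
theorem letter18_all (c : ℕ) (hc : c < 19530) : letter18_f c = true := by
  rcases Nat.lt_or_ge c 2442 with h0 | h0
  · exact rng_spec letter18_0 c (by omega) (by omega)
  rcases Nat.lt_or_ge c 4884 with h1 | h1
  · exact rng_spec letter18_1 c (by omega) (by omega)
  rcases Nat.lt_or_ge c 7326 with h2 | h2
  · exact rng_spec letter18_2 c (by omega) (by omega)
  rcases Nat.lt_or_ge c 9768 with h3 | h3
  · exact rng_spec letter18_3 c (by omega) (by omega)
  rcases Nat.lt_or_ge c 12210 with h4 | h4
  · exact rng_spec letter18_4 c (by omega) (by omega)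
  rcases Nat.lt_or_ge c 14652 with h5 | h5
  · exact rng_spec letter18_5 c (by omega) (by omega)
  rcases Nat.lt_or_ge c 17094 with h6 | h6
  · exact rng_spec letter18_6 c (by omega) (by omega)
  exact rng_spec letter18_7 c (by omega) (by omega)
theorem letter18 (c : ℕ) (hc : c < 19530) : run T [2,0,3] c = T 18 c := by
  have h := letter18_all c hc
  simp only [letter18_f, frc_eq, Nat.beq_eq] at h
  simpa [run, T0, T2, T3, T8, T10, T12, T14, T16, T18, T20] using h
def letter20_f : ℕ → Bool := fun c => frc (t2 c) fun d1 => frc (t2 d1) fun d2 => frc (t0 d2) fun d3 => frc (t3 d3) fun d4 => frc (t3 d4) fun d5 => Nat.beq d5 (t20 c)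
theorem letter20_0 : rng letter20_f 0 2442 = true := by decide +kernel
theorem letter20_1 : rng letter20_f 2442 2442 = true := by decide +kernel
theorem letter20_2 : rng letter20_f 4884 2442 = true := by decide +kernel
theorem letter20_3 : rng letter20_f 7326 2442 = true := by decide +kernel
theorem letter20_4 : rng letter20_f 9768 2442 = true := by decide +kernel
theorem letter20_5 : rng letter20_f 12210 2442 = true := by decide +kernel
theorem letter20_6 : rng letter20_f 14652 2442 = true := by decide +kernel
theorem letter20_7 : rng letter20_f 17094 2436 = true := by decide +kernel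
theorem letter20_all (c : ℕ) (hc : c < 19530) : letter20_f c = true := by
  rcases Nat.lt_or_ge c 2442 with h0 | h0
  · exact rng_spec letter20_0 c (by omega) (by omega)
  rcases Nat.lt_or_ge c 4884 with h1 | h1
  · exact rng_spec letter20_1 c (by omega) (by omega)
  rcases Nat.lt_or_ge c 7326 with h2 | h2
  · exact rng_spec letter20_2 c (by omega) (by omega)
  rcases Nat.lt_or_ge c 9768 with h3 | h3
  · exact rng_spec letter20_3 c (by omega) (by omega)
  rcases Nat.lt_or_ge c 12210 with h4 | h4
  · exact rng_spec letter20_4 c (by omega) (by omega)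
  rcases Nat.lt_or_ge c 14652 with h5 | h5
  · exact rng_spec letter20_5 c (by omega) (by omega)
  rcases Nat.lt_or_ge c 17094 with h6 | h6
  · exact rng_spec letter20_6 c (by omega) (by omega)
  exact rng_spec letter20_7 c (by omega) (by omega)
theorem letter20 (c : ℕ) (hc : c < 19530) : run T [2,2,0,3,3] c = T 20 c := by
  have h := letter20_all c hc
  simp only [letter20_f, frc_eq, Nat.beq_eq] at h
  simpa [run, T0, T2, T3, T8, T10, T12, T14, T16, T18, T20] using h
end

end Data
end Ly
end H23
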