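import Mathlib
import Cfsg.Agent.H23.Ly.Data.Rng
import Cfsg.Agent.H23.Ly.Data.RelWords

/-!
Relators fix every point (generated data).
-/

set_option autoImplicit false
set_option maxRecDepth 100000
set_option linter.all false
set_option Elab.async false

namespace H23
namespace Ly
namespace Data

noncomputable section

open H77.HN (frc frc_eq run)

def rel8_f : ℕ → Bool := fun c => frc (t17 c) fun d1 => frc (t11 d1) fun d2 => frc (t16 d2) fun d3 => frc (t10 d3) fun d4 => Nat.beq d4 c
theorem rel8_0 : rng rel8_f 0 2442 = true := by decide +kernel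
theorem rel8_1 : rng rel8_f 2442 2442 = true := by decide +kernel
theorem rel8_2 : rng rel8_f 4884 2442 = true := by decide +kernel
theorem rel8_3 : rng rel8_f 7326 2442 = true := by decide +kernel
theorem rel8_4 : rng rel8_f 9768 2442 = true := by decide +kernel
theorem rel8_5 : rng rel8_f 12210 2442 = true := by decide +kernel
theorem rel8_6 : rng rel8_f 14652 2442 = true := by decide +kernel
theorem rel8_7 : rng rel8_f 17094 2436 = true := by decide +kernel
theorem rel8_all (c : ℕ) (hc : c < 19530) : rel8_f c = true := by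
  rcases Nat.lt_or_ge c 2442 with h0 | h0
  · exact rng_spec rel8_0 c (by omega) (by omega)
  rcases Nat.lt_or_ge c 4884 with h1 | h1
  · exact rng_spec rel8_1 c (by omega) (by omega)
  rcases Nat.lt_or_ge c 7326 with h2 | h2
  · exact rng_spec rel8_2 c (by omega) (by omega)
  rcases Nat.lt_or_ge c 9768 with h3 | h3
  · exact rng_spec rel8_3 c (by omega) (by omega)
  rcases Nat.lt_or_ge c 12210 with h4 | h4
  · exact rng_spec rel8_4 c (by omega) (by omega)
  rcases Nat.lt_or_ge c 14652 with h5 | h5
  · exact rng_spec rel8_5 c (by omega) (by omega)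
  rcases Nat.lt_or_ge c 17094 with h6 | h6
  · exact rng_spec rel8_6 c (by omega) (by omega)
  exact rng_spec rel8_7 c (by omega) (by omega)
theorem rel8 (c : ℕ) (hc : c < 19530) : run T w8 c = c := by
  have h := rel8_all c hc
  simp only [rel8_f, frc_eq, Nat.beq_eq] at h
  simpa [w8, run, T10, T11, T16, T17] using h
def rel31_f : ℕ → Bool := fun c => frc (t0 c) fun d1 => frc (t2 d1) fun d2 => frc (t2 d2) fun d3 => frc (t1 d3) fun d4 => frc (t3 d4) fun d5 => frc (t5 d5) fun d6 => frc (t15 d6) fun d7 => frc (t17 d7) fun d8 => frc (t0 d8) fun d9 => frc (t8 d9) fun d10 => frc (t0 d10) fun d11 => frc (t8 d11) fun d12 => frc (t0 d12) fun d13 => frc (t11 d13) fun d14 => frc (t2 d14) fun d15 => frc (t8 d15) fun d16 => frc (t7 d16) fun d17 => Nat.beq d17 c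
theorem rel31_0 : rng rel31_f 0 2442 = true := by decide +kernel
theorem rel31_1 : rng rel31_f 2442 2442 = true := by decide +kernel
theorem rel31_2 : rng rel31_f 4884 2442 = true := by decide +kernel
theorem rel31_3 : rng rel31_f 7326 2442 = true := by decide +kernel
theorem rel31_4 : rng rel31_f 9768 2442 = true := by decide +kernel
theorem rel31_5 : rng rel31_f 12210 2442 = true := by decide +kernel
theorem rel31_6 : rng rel31_f 14652 2442 = true := by decide +kernel
theorem rel31_7 : rng rel31_f 17094 2436 = true := by decide +kernel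
theorem rel31_all (c : ℕ) (hc : c < 19530) : rel31_f c = true := by
  rcases Nat.lt_or_ge c 2442 with h0 | h0
  · exact rng_spec rel31_0 c (by omega) (by omega)
  rcases Nat.lt_or_ge c 4884 with h1 | h1
  · exact rng_spec rel31_1 c (by omega) (by omega)
  rcases Nat.lt_or_ge c 7326 with h2 | h2
  · exact rng_spec rel31_2 c (by omega) (by omega)
  rcases Nat.lt_or_ge c 9768 with h3 | h3
  · exact rng_spec rel31_3 c (by omega) (by omega)
  rcases Nat.lt_or_ge c 12210 with h4 | h4
  · exact rng_spec rel31_4 c (by omega) (by omega)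
  rcases Nat.lt_or_ge c 14652 with h5 | h5
  · exact rng_spec rel31_5 c (by omega) (by omega)
  rcases Nat.lt_or_ge c 17094 with h6 | h6
  · exact rng_spec rel31_6 c (by omega) (by omega)
  exact rng_spec rel31_7 c (by omega) (by omega)
theorem rel31 (c : ℕ) (hc : c < 19530) : run T w31 c = c := by
  have h := rel31_all c hc
  simp only [rel31_f, frc_eq, Nat.beq_eq] at h
  simpa [w31, run, T0, T1, T2, T3, T5, T7, T8, T11, T15, T17] using h
def rel32_f : ℕ → Bool := fun c => frc (t7 c) fun d1 => frc (t3 d1) fun d2 => frc (t6 d2) fun d3 => frc (t2 d3) fun d4 => Nat.beq d4 c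
theorem rel32_0 : rng rel32_f 0 2442 = true := by decide +kernel
theorem rel32_1 : rng rel32_f 2442 2442 = true := by decide +kernel
theorem rel32_2 : rng rel32_f 4884 2442 = true := by decide +kernel
theorem rel32_3 : rng rel32_f 7326 2442 = true := by decide +kernel
theorem rel32_4 : rng rel32_f 9768 2442 = true := by decide +kernel
theorem rel32_5 : rng rel32_f 12210 2442 = true := by decide +kernel
theorem rel32_6 : rng rel32_f 14652 2442 = true := by decide +kernel
theorem rel32_7 : rng rel32_f 17094 2436 = true := by decide +kernel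
theorem rel32_all (c : ℕ) (hc : c < 19530) : rel32_f c = true := by
  rcases Nat.lt_or_ge c 2442 with h0 | h0
  · exact rng_spec rel32_0 c (by omega) (by omega)
  rcases Nat.lt_or_ge c 4884 with h1 | h1
  · exact rng_spec rel32_1 c (by omega) (by omega)
  rcases Nat.lt_or_ge c 7326 with h2 | h2
  · exact rng_spec rel32_2 c (by omega) (by omega)
  rcases Nat.lt_or_ge c 9768 with h3 | h3
  · exact rng_spec rel32_3 c (by omega) (by omega)
  rcases Nat.lt_or_ge c 12210 with h4 | h4
  · exact rng_spec rel32_4 c (by omega) (by omega)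
  rcases Nat.lt_or_ge c 14652 with h5 | h5
  · exact rng_spec rel32_5 c (by omega) (by omega)
  rcases Nat.lt_or_ge c 17094 with h6 | h6
  · exact rng_spec rel32_6 c (by omega) (by omega)
  exact rng_spec rel32_7 c (by omega) (by omega)
theorem rel32 (c : ℕ) (hc : c < 19530) : run T w32 c = c := by
  have h := rel32_all c hc
  simp only [rel32_f, frc_eq, Nat.beq_eq] at h
  simpa [w32, run, T2, T3, T6, T7] using h
def rel33_f : ℕ → Bool := fun c => frc (t0 c) fun d1 => frc (t0 d1) fun d2 => frc (t0 d2) fun d3 => frc (t7 d3) fun d4 => frc (t1 d4) fun d5 => frc (t6 d5) fun d6 => Nat.beq d6 c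
theorem rel33_0 : rng rel33_f 0 2442 = true := by decide +kernel
theorem rel33_1 : rng rel33_f 2442 2442 = true := by decide +kernel
theorem rel33_2 : rng rel33_f 4884 2442 = true := by decide +kernel
theorem rel33_3 : rng rel33_f 7326 2442 = true := by decide +kernel
theorem rel33_4 : rng rel33_f 9768 2442 = true := by decide +kernel
theorem rel33_5 : rng rel33_f 12210 2442 = true := by decide +kernel
theorem rel33_6 : rng rel33_f 14652 2442 = true := by decide +kernel
theorem rel33_7 : rng rel33_f 17094 2436 = true := by decide +kernel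
theorem rel33_all (c : ℕ) (hc : c < 19530) : rel33_f c = true := by
  rcases Nat.lt_or_ge c 2442 with h0 | h0
  · exact rng_spec rel33_0 c (by omega) (by omega)
  rcases Nat.lt_or_ge c 4884 with h1 | h1
  · exact rng_spec rel33_1 c (by omega) (by omega)
  rcases Nat.lt_or_ge c 7326 with h2 | h2
  · exact rng_spec rel33_2 c (by omega) (by omega)
  rcases Nat.lt_or_ge c 9768 with h3 | h3
  · exact rng_spec rel33_3 c (by omega) (by omega)
  rcases Nat.lt_or_ge c 12210 with h4 | h4
  · exact rng_spec rel33_4 c (by omega) (by omega)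
  rcases Nat.lt_or_ge c 14652 with h5 | h5
  · exact rng_spec rel33_5 c (by omega) (by omega)
  rcases Nat.lt_or_ge c 17094 with h6 | h6
  · exact rng_spec rel33_6 c (by omega) (by omega)
  exact rng_spec rel33_7 c (by omega) (by omega)
theorem rel33 (c : ℕ) (hc : c < 19530) : run T w33 c = c := by
  have h := rel33_all c hc
  simp only [rel33_f, frc_eq, Nat.beq_eq] at h
  simpa [w33, run, T0, T1, T6, T7] using h
end

end Data
end Ly
end H23
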