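import Mathlib
import Cfsg.Agent.H23.Ly.Data.Rng
import Cfsg.Agent.H23.Ly.Data.RelWords

/-!
Relators fix every point (generated data).
-/

set_option autoImplicit false
set_option maxRecDepth 100000
set_option linter.all false
set_option Elab.async false

namespace H23
namespace Ly
namespace Data

noncomputable section

open H77.HN (frc frc_eq run)

def rel13_f : ℕ → Bool := fun c => frc (t17 c) fun d1 => frc (t13 d1) fun d2 => frc (t11 d2) fun d3 => frc (t12 d3) fun d4 => frc (t10 d4) fun d5 => Nat.beq d5 c
theorem rel13_0 : rng rel13_f 0 2442 = true := by decide +kernel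
theorem rel13_1 : rng rel13_f 2442 2442 = true := by decide +kernel
theorem rel13_2 : rng rel13_f 4884 2442 = true := by decide +kernel
theorem rel13_3 : rng rel13_f 7326 2442 = true := by decide +kernel
theorem rel13_4 : rng rel13_f 9768 2442 = true := by decide +kernel
theorem rel13_5 : rng rel13_f 12210 2442 = true := by decide +kernel
theorem rel13_6 : rng rel13_f 14652 2442 = true := by decide +kernel
theorem rel13_7 : rng rel13_f 17094 2436 = true := by decide +kernel
theorem rel13_all (c : ℕ) (hc : c < 19530) : rel13_f c = true := by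
  rcases Nat.lt_or_ge c 2442 with h0 | h0
  · exact rng_spec rel13_0 c (by omega) (by omega)
  rcases Nat.lt_or_ge c 4884 with h1 | h1
  · exact rng_spec rel13_1 c (by omega) (by omega)
  rcases Nat.lt_or_ge c 7326 with h2 | h2
  · exact rng_spec rel13_2 c (by omega) (by omega)
  rcases Nat.lt_or_ge c 9768 with h3 | h3
  · exact rng_spec rel13_3 c (by omega) (by omega)
  rcases Nat.lt_or_ge c 12210 with h4 | h4
  · exact rng_spec rel13_4 c (by omega) (by omega)
  rcases Nat.lt_or_ge c 14652 with h5 | h5
  · exact rng_spec rel13_5 c (by omega) (by omega)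
  rcases Nat.lt_or_ge c 17094 with h6 | h6
  · exact rng_spec rel13_6 c (by omega) (by omega)
  exact rng_spec rel13_7 c (by omega) (by omega)
theorem rel13 (c : ℕ) (hc : c < 19530) : run T w13 c = c := by
  have h := rel13_all c hc
  simp only [rel13_f, frc_eq, Nat.beq_eq] at h
  simpa [w13, run, T10, T11, T12, T13, T17] using h
def rel14_f : ℕ → Bool := fun c => frc (t15 c) fun d1 => frc (t11 d1) fun d2 => frc (t14 d2) fun d3 => frc (t10 d3) fun d4 => Nat.beq d4 c
theorem rel14_0 : rng rel14_f 0 2442 = true := by decide +kernel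
theorem rel14_1 : rng rel14_f 2442 2442 = true := by decide +kernel
theorem rel14_2 : rng rel14_f 4884 2442 = true := by decide +kernel
theorem rel14_3 : rng rel14_f 7326 2442 = true := by decide +kernel
theorem rel14_4 : rng rel14_f 9768 2442 = true := by decide +kernel
theorem rel14_5 : rng rel14_f 12210 2442 = true := by decide +kernel
theorem rel14_6 : rng rel14_f 14652 2442 = true := by decide +kernel
theorem rel14_7 : rng rel14_f 17094 2436 = true := by decide +kernel
theorem rel14_all (c : ℕ) (hc : c < 19530) : rel14_f c = true := by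
  rcases Nat.lt_or_ge c 2442 with h0 | h0
  · exact rng_spec rel14_0 c (by omega) (by omega)
  rcases Nat.lt_or_ge c 4884 with h1 | h1
  · exact rng_spec rel14_1 c (by omega) (by omega)
  rcases Nat.lt_or_ge c 7326 with h2 | h2
  · exact rng_spec rel14_2 c (by omega) (by omega)
  rcases Nat.lt_or_ge c 9768 with h3 | h3
  · exact rng_spec rel14_3 c (by omega) (by omega)
  rcases Nat.lt_or_ge c 12210 with h4 | h4
  · exact rng_spec rel14_4 c (by omega) (by omega)
  rcases Nat.lt_or_ge c 14652 with h5 | h5
  · exact rng_spec rel14_5 c (by omega) (by omega)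
  rcases Nat.lt_or_ge c 17094 with h6 | h6
  · exact rng_spec rel14_6 c (by omega) (by omega)
  exact rng_spec rel14_7 c (by omega) (by omega)
theorem rel14 (c : ℕ) (hc : c < 19530) : run T w14 c = c := by
  have h := rel14_all c hc
  simp only [rel14_f, frc_eq, Nat.beq_eq] at h
  simpa [w14, run, T10, T11, T14, T15] using h
def rel28_f : ℕ → Bool := fun c => frc (t0 c) fun d1 => frc (t2 d1) fun d2 => frc (t2 d2) fun d3 => frc (t0 d3) fun d4 => frc (t3 d4) fun d5 => frc (t0 d5) fun d6 => frc (t4 d6) fun d7 => frc (t16 d7) fun d8 => frc (t15 d8) fun d9 => frc (t9 d9) fun d10 => frc (t1 d10) fun d11 => frc (t1 d11) fun d12 => frc (t9 d12) fun d13 => Nat.beq d13 c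
theorem rel28_0 : rng rel28_f 0 2442 = true := by decide +kernel
theorem rel28_1 : rng rel28_f 2442 2442 = true := by decide +kernel
theorem rel28_2 : rng rel28_f 4884 2442 = true := by decide +kernel
theorem rel28_3 : rng rel28_f 7326 2442 = true := by decide +kernel
theorem rel28_4 : rng rel28_f 9768 2442 = true := by decide +kernel
theorem rel28_5 : rng rel28_f 12210 2442 = true := by decide +kernel
theorem rel28_6 : rng rel28_f 14652 2442 = true := by decide +kernel
theorem rel28_7 : rng rel28_f 17094 2436 = true := by decide +kernel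
theorem rel28_all (c : ℕ) (hc : c < 19530) : rel28_f c = true := by
  rcases Nat.lt_or_ge c 2442 with h0 | h0
  · exact rng_spec rel28_0 c (by omega) (by omega)
  rcases Nat.lt_or_ge c 4884 with h1 | h1
  · exact rng_spec rel28_1 c (by omega) (by omega)
  rcases Nat.lt_or_ge c 7326 with h2 | h2
  · exact rng_spec rel28_2 c (by omega) (by omega)
  rcases Nat.lt_or_ge c 9768 with h3 | h3
  · exact rng_spec rel28_3 c (by omega) (by omega)
  rcases Nat.lt_or_ge c 12210 with h4 | h4
  · exact rng_spec rel28_4 c (by omega) (by omega)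
  rcases Nat.lt_or_ge c 14652 with h5 | h5
  · exact rng_spec rel28_5 c (by omega) (by omega)
  rcases Nat.lt_or_ge c 17094 with h6 | h6
  · exact rng_spec rel28_6 c (by omega) (by omega)
  exact rng_spec rel28_7 c (by omega) (by omega)
theorem rel28 (c : ℕ) (hc : c < 19530) : run T w28 c = c := by
  have h := rel28_all c hc
  simp only [rel28_f, frc_eq, Nat.beq_eq] at h
  simpa [w28, run, T0, T1, T2, T3, T4, T9, T15, T16] using h
def rel29_f : ℕ → Bool := fun c => frc (t4 c) fun d1 => frc (t13 d1) fun d2 => frc (t15 d2) fun d3 => frc (t15 d3) fun d4 => frc (t9 d4) fun d5 => frc (t3 d5) fun d6 => frc (t8 d6) fun d7 => Nat.beq d7 c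
theorem rel29_0 : rng rel29_f 0 2442 = true := by decide +kernel
theorem rel29_1 : rng rel29_f 2442 2442 = true := by decide +kernel
theorem rel29_2 : rng rel29_f 4884 2442 = true := by decide +kernel
theorem rel29_3 : rng rel29_f 7326 2442 = true := by decide +kernel
theorem rel29_4 : rng rel29_f 9768 2442 = true := by decide +kernel
theorem rel29_5 : rng rel29_f 12210 2442 = true := by decide +kernel
theorem rel29_6 : rng rel29_f 14652 2442 = true := by decide +kernel
theorem rel29_7 : rng rel29_f 17094 2436 = true := by decide +kernel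
theorem rel29_all (c : ℕ) (hc : c < 19530) : rel29_f c = true := by
  rcases Nat.lt_or_ge c 2442 with h0 | h0
  · exact rng_spec rel29_0 c (by omega) (by omega)
  rcases Nat.lt_or_ge c 4884 with h1 | h1
  · exact rng_spec rel29_1 c (by omega) (by omega)
  rcases Nat.lt_or_ge c 7326 with h2 | h2
  · exact rng_spec rel29_2 c (by omega) (by omega)
  rcases Nat.lt_or_ge c 9768 with h3 | h3
  · exact rng_spec rel29_3 c (by omega) (by omega)
  rcases Nat.lt_or_ge c 12210 with h4 | h4
  · exact rng_spec rel29_4 c (by omega) (by omega)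
  rcases Nat.lt_or_ge c 14652 with h5 | h5
  · exact rng_spec rel29_5 c (by omega) (by omega)
  rcases Nat.lt_or_ge c 17094 with h6 | h6
  · exact rng_spec rel29_6 c (by omega) (by omega)
  exact rng_spec rel29_7 c (by omega) (by omega)
theorem rel29 (c : ℕ) (hc : c < 19530) : run T w29 c = c := by
  have h := rel29_all c hc
  simp only [rel29_f, frc_eq, Nat.beq_eq] at h
  simpa [w29, run, T3, T4, T8, T9, T13, T15] using h
end

end Data
end Ly
end H23
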