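import Mathlib
import Cfsg.Agent.H23.Ly.Data.Rng
import Cfsg.Agent.H23.Ly.Data.RelWords

/-!
Relators fix every point (generated data).
-/

set_option autoImplicit false
set_option maxRecDepth 100000
set_option linter.all false
set_option Elab.async false

namespace H23
namespace Ly
namespace Data

noncomputable section

open H77.HN (frc frc_eq run)

def rel4_f : ℕ → Bool := fun c => frc (t3 c) fun d1 => frc (t1 d1) fun d2 => frc (t2 d2) fun d3 => frc (t0 d3) fun d4 => frc (t3 d4) fun d5 => frc (t1 d5) fun d6 => frc (t2 d6) fun d7 => frc (t0 d7) fun d8 => frc (t3 d8) fun d9 => frc (t1 d9) fun d10 => frc (t2 d10) fun d11 => frc (t0 d11) fun d12 => Nat.beq d12 c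
theorem rel4_0 : rng rel4_f 0 2442 = true := by decide +kernel
theorem rel4_1 : rng rel4_f 2442 2442 = true := by decide +kernel
theorem rel4_2 : rng rel4_f 4884 2442 = true := by decide +kernel
theorem rel4_3 : rng rel4_f 7326 2442 = true := by decide +kernel
theorem rel4_4 : rng rel4_f 9768 2442 = true := by decide +kernel
theorem rel4_5 : rng rel4_f 12210 2442 = true := by decide +kernel
theorem rel4_6 : rng rel4_f 14652 2442 = true := by decide +kernel
theorem rel4_7 : rng rel4_f 17094 2436 = true := by decide +kernel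
theorem rel4_all (c : ℕ) (hc : c < 19530) : rel4_f c = true := by
  rcases Nat.lt_or_ge c 2442 with h0 | h0
  · exact rng_spec rel4_0 c (by omega) (by omega)
  rcases Nat.lt_or_ge c 4884 with h1 | h1
  · exact rng_spec rel4_1 c (by omega) (by omega)
  rcases Nat.lt_or_ge c 7326 with h2 | h2
  · exact rng_spec rel4_2 c (by omega) (by omega)
  rcases Nat.lt_or_ge c 9768 with h3 | h3
  · exact rng_spec rel4_3 c (by omega) (by omega)
  rcases Nat.lt_or_ge c 12210 with h4 | h4
  · exact rng_spec rel4_4 c (by omega) (by omega)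
  rcases Nat.lt_or_ge c 14652 with h5 | h5
  · exact rng_spec rel4_5 c (by omega) (by omega)
  rcases Nat.lt_or_ge c 17094 with h6 | h6
  · exact rng_spec rel4_6 c (by omega) (by omega)
  exact rng_spec rel4_7 c (by omega) (by omega)
theorem rel4 (c : ℕ) (hc : c < 19530) : run T w4 c = c := by
  have h := rel4_all c hc
  simp only [rel4_f, frc_eq, Nat.beq_eq] at h
  simpa [w4, run, T0, T1, T2, T3] using h
def rel5_f : ℕ → Bool := fun c => frc (t5 c) fun d1 => frc (t5 d1) fun d2 => frc (t5 d2) fun d3 => frc (t5 d3) fun d4 => frc (t5 d4) fun d5 => Nat.beq d5 c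
theorem rel5_0 : rng rel5_f 0 2442 = true := by decide +kernel
theorem rel5_1 : rng rel5_f 2442 2442 = true := by decide +kernel
theorem rel5_2 : rng rel5_f 4884 2442 = true := by decide +kernel
theorem rel5_3 : rng rel5_f 7326 2442 = true := by decide +kernel
theorem rel5_4 : rng rel5_f 9768 2442 = true := by decide +kernel
theorem rel5_5 : rng rel5_f 12210 2442 = true := by decide +kernel
theorem rel5_6 : rng rel5_f 14652 2442 = true := by decide +kernel
theorem rel5_7 : rng rel5_f 17094 2436 = true := by decide +kernel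
theorem rel5_all (c : ℕ) (hc : c < 19530) : rel5_f c = true := by
  rcases Nat.lt_or_ge c 2442 with h0 | h0
  · exact rng_spec rel5_0 c (by omega) (by omega)
  rcases Nat.lt_or_ge c 4884 with h1 | h1
  · exact rng_spec rel5_1 c (by omega) (by omega)
  rcases Nat.lt_or_ge c 7326 with h2 | h2
  · exact rng_spec rel5_2 c (by omega) (by omega)
  rcases Nat.lt_or_ge c 9768 with h3 | h3
  · exact rng_spec rel5_3 c (by omega) (by omega)
  rcases Nat.lt_or_ge c 12210 with h4 | h4
  · exact rng_spec rel5_4 c (by omega) (by omega)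
  rcases Nat.lt_or_ge c 14652 with h5 | h5
  · exact rng_spec rel5_5 c (by omega) (by omega)
  rcases Nat.lt_or_ge c 17094 with h6 | h6
  · exact rng_spec rel5_6 c (by omega) (by omega)
  exact rng_spec rel5_7 c (by omega) (by omega)
theorem rel5 (c : ℕ) (hc : c < 19530) : run T w5 c = c := by
  have h := rel5_all c hc
  simp only [rel5_f, frc_eq, Nat.beq_eq] at h
  simpa [w5, run, T5] using h
def rel9_f : ℕ → Bool := fun c => frc (t17 c) fun d1 => frc (t13 d1) fun d2 => frc (t16 d2) fun d3 => frc (t12 d3) fun d4 => Nat.beq d4 c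
theorem rel9_0 : rng rel9_f 0 2442 = true := by decide +kernel
theorem rel9_1 : rng rel9_f 2442 2442 = true := by decide +kernel
theorem rel9_2 : rng rel9_f 4884 2442 = true := by decide +kernel
theorem rel9_3 : rng rel9_f 7326 2442 = true := by decide +kernel
theorem rel9_4 : rng rel9_f 9768 2442 = true := by decide +kernel
theorem rel9_5 : rng rel9_f 12210 2442 = true := by decide +kernel
theorem rel9_6 : rng rel9_f 14652 2442 = true := by decide +kernel
theorem rel9_7 : rng rel9_f 17094 2436 = true := by decide +kernel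
theorem rel9_all (c : ℕ) (hc : c < 19530) : rel9_f c = true := by
  rcases Nat.lt_or_ge c 2442 with h0 | h0
  · exact rng_spec rel9_0 c (by omega) (by omega)
  rcases Nat.lt_or_ge c 4884 with h1 | h1
  · exact rng_spec rel9_1 c (by omega) (by omega)
  rcases Nat.lt_or_ge c 7326 with h2 | h2
  · exact rng_spec rel9_2 c (by omega) (by omega)
  rcases Nat.lt_or_ge c 9768 with h3 | h3
  · exact rng_spec rel9_3 c (by omega) (by omega)
  rcases Nat.lt_or_ge c 12210 with h4 | h4
  · exact rng_spec rel9_4 c (by omega) (by omega)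
  rcases Nat.lt_or_ge c 14652 with h5 | h5
  · exact rng_spec rel9_5 c (by omega) (by omega)
  rcases Nat.lt_or_ge c 17094 with h6 | h6
  · exact rng_spec rel9_6 c (by omega) (by omega)
  exact rng_spec rel9_7 c (by omega) (by omega)
theorem rel9 (c : ℕ) (hc : c < 19530) : run T w9 c = c := by
  have h := rel9_all c hc
  simp only [rel9_f, frc_eq, Nat.beq_eq] at h
  simpa [w9, run, T12, T13, T16, T17] using h
def rel26_f : ℕ → Bool := fun c => frc (t2 c) fun d1 => frc (t2 d1) fun d2 => frc (t13 d2) fun d3 => frc (t14 d3) fun d4 => frc (t9 d4) fun d5 => frc (t15 d5) fun d6 => frc (t8 d6) fun d7 => Nat.beq d7 c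
theorem rel26_0 : rng rel26_f 0 2442 = true := by decide +kernel
theorem rel26_1 : rng rel26_f 2442 2442 = true := by decide +kernel
theorem rel26_2 : rng rel26_f 4884 2442 = true := by decide +kernel
theorem rel26_3 : rng rel26_f 7326 2442 = true := by decide +kernel
theorem rel26_4 : rng rel26_f 9768 2442 = true := by decide +kernel
theorem rel26_5 : rng rel26_f 12210 2442 = true := by decide +kernel
theorem rel26_6 : rng rel26_f 14652 2442 = true := by decide +kernel
theorem rel26_7 : rng rel26_f 17094 2436 = true := by decide +kernel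
theorem rel26_all (c : ℕ) (hc : c < 19530) : rel26_f c = true := by
  rcases Nat.lt_or_ge c 2442 with h0 | h0
  · exact rng_spec rel26_0 c (by omega) (by omega)
  rcases Nat.lt_or_ge c 4884 with h1 | h1
  · exact rng_spec rel26_1 c (by omega) (by omega)
  rcases Nat.lt_or_ge c 7326 with h2 | h2
  · exact rng_spec rel26_2 c (by omega) (by omega)
  rcases Nat.lt_or_ge c 9768 with h3 | h3
  · exact rng_spec rel26_3 c (by omega) (by omega)
  rcases Nat.lt_or_ge c 12210 with h4 | h4
  · exact rng_spec rel26_4 c (by omega) (by omega)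
  rcases Nat.lt_or_ge c 14652 with h5 | h5
  · exact rng_spec rel26_5 c (by omega) (by omega)
  rcases Nat.lt_or_ge c 17094 with h6 | h6
  · exact rng_spec rel26_6 c (by omega) (by omega)
  exact rng_spec rel26_7 c (by omega) (by omega)
theorem rel26 (c : ℕ) (hc : c < 19530) : run T w26 c = c := by
  have h := rel26_all c hc
  simp only [rel26_f, frc_eq, Nat.beq_eq] at h
  simpa [w26, run, T2, T8, T9, T13, T14, T15] using h
end

end Data
end Ly
end H23
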