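import Mathlib
import Cfsg.Agent.H23.Ly.Data.Rng
import Cfsg.Agent.H23.Ly.Data.RelWords

/-!
Relators fix every point (generated data).
-/

set_option autoImplicit false
set_option maxRecDepth 100000
set_option linter.all false
set_option Elab.async false

namespace H23
namespace Ly
namespace Data

noncomputable section

open H77.HN (frc frc_eq run)

def rel6_f : ℕ → Bool := fun c => frc (t17 c) fun d1 => frc (t17 d1) fun d2 => frc (t17 d2) fun d3 => frc (t17 d3) fun d4 => frc (t17 d4) fun d5 => Nat.beq d5 c
theorem rel6_0 : rng rel6_f 0 2442 = true := by decide +kernel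
theorem rel6_1 : rng rel6_f 2442 2442 = true := by decide +kernel
theorem rel6_2 : rng rel6_f 4884 2442 = true := by decide +kernel
theorem rel6_3 : rng rel6_f 7326 2442 = true := by decide +kernel
theorem rel6_4 : rng rel6_f 9768 2442 = true := by decide +kernel
theorem rel6_5 : rng rel6_f 12210 2442 = true := by decide +kernel
theorem rel6_6 : rng rel6_f 14652 2442 = true := by decide +kernel
theorem rel6_7 : rng rel6_f 17094 2436 = true := by decide +kernel
theorem rel6_all (c : ℕ) (hc : c < 19530) : rel6_f c = true := by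
  rcases Nat.lt_or_ge c 2442 with h0 | h0
  · exact rng_spec rel6_0 c (by omega) (by omega)
  rcases Nat.lt_or_ge c 4884 with h1 | h1
  · exact rng_spec rel6_1 c (by omega) (by omega)
  rcases Nat.lt_or_ge c 7326 with h2 | h2
  · exact rng_spec rel6_2 c (by omega) (by omega)
  rcases Nat.lt_or_ge c 9768 with h3 | h3
  · exact rng_spec rel6_3 c (by omega) (by omega)
  rcases Nat.lt_or_ge c 12210 with h4 | h4
  · exact rng_spec rel6_4 c (by omega) (by omega)
  rcases Nat.lt_or_ge c 14652 with h5 | h5
  · exact rng_spec rel6_5 c (by omega) (by omega)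
  rcases Nat.lt_or_ge c 17094 with h6 | h6
  · exact rng_spec rel6_6 c (by omega) (by omega)
  exact rng_spec rel6_7 c (by omega) (by omega)
theorem rel6 (c : ℕ) (hc : c < 19530) : run T w6 c = c := by
  have h := rel6_all c hc
  simp only [rel6_f, frc_eq, Nat.beq_eq] at h
  simpa [w6, run, T17] using h
def rel10_f : ℕ → Bool := fun c => frc (t17 c) fun d1 => frc (t15 d1) fun d2 => frc (t16 d2) fun d3 => frc (t14 d3) fun d4 => Nat.beq d4 c
theorem rel10_0 : rng rel10_f 0 2442 = true := by decide +kernel
theorem rel10_1 : rng rel10_f 2442 2442 = true := by decide +kernel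
theorem rel10_2 : rng rel10_f 4884 2442 = true := by decide +kernel
theorem rel10_3 : rng rel10_f 7326 2442 = true := by decide +kernel
theorem rel10_4 : rng rel10_f 9768 2442 = true := by decide +kernel
theorem rel10_5 : rng rel10_f 12210 2442 = true := by decide +kernel
theorem rel10_6 : rng rel10_f 14652 2442 = true := by decide +kernel
theorem rel10_7 : rng rel10_f 17094 2436 = true := by decide +kernel
theorem rel10_all (c : ℕ) (hc : c < 19530) : rel10_f c = true := by
  rcases Nat.lt_or_ge c 2442 with h0 | h0
  · exact rng_spec rel10_0 c (by omega) (by omega)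
  rcases Nat.lt_or_ge c 4884 with h1 | h1
  · exact rng_spec rel10_1 c (by omega) (by omega)
  rcases Nat.lt_or_ge c 7326 with h2 | h2
  · exact rng_spec rel10_2 c (by omega) (by omega)
  rcases Nat.lt_or_ge c 9768 with h3 | h3
  · exact rng_spec rel10_3 c (by omega) (by omega)
  rcases Nat.lt_or_ge c 12210 with h4 | h4
  · exact rng_spec rel10_4 c (by omega) (by omega)
  rcases Nat.lt_or_ge c 14652 with h5 | h5
  · exact rng_spec rel10_5 c (by omega) (by omega)
  rcases Nat.lt_or_ge c 17094 with h6 | h6
  · exact rng_spec rel10_6 c (by omega) (by omega)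
  exact rng_spec rel10_7 c (by omega) (by omega)
theorem rel10 (c : ℕ) (hc : c < 19530) : run T w10 c = c := by
  have h := rel10_all c hc
  simp only [rel10_f, frc_eq, Nat.beq_eq] at h
  simpa [w10, run, T14, T15, T16, T17] using h
def rel27_f : ℕ → Bool := fun c => frc (t4 c) fun d1 => frc (t13 d1) fun d2 => frc (t4 d2) fun d3 => frc (t15 d3) fun d4 => frc (t9 d4) fun d5 => frc (t17 d5) fun d6 => frc (t8 d6) fun d7 => Nat.beq d7 c
theorem rel27_0 : rng rel27_f 0 2442 = true := by decide +kernel
theorem rel27_1 : rng rel27_f 2442 2442 = true := by decide +kernel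
theorem rel27_2 : rng rel27_f 4884 2442 = true := by decide +kernel
theorem rel27_3 : rng rel27_f 7326 2442 = true := by decide +kernel
theorem rel27_4 : rng rel27_f 9768 2442 = true := by decide +kernel
theorem rel27_5 : rng rel27_f 12210 2442 = true := by decide +kernel
theorem rel27_6 : rng rel27_f 14652 2442 = true := by decide +kernel
theorem rel27_7 : rng rel27_f 17094 2436 = true := by decide +kernel
theorem rel27_all (c : ℕ) (hc : c < 19530) : rel27_f c = true := by
  rcases Nat.lt_or_ge c 2442 with h0 | h0
  · exact rng_spec rel27_0 c (by omega) (by omega)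
  rcases Nat.lt_or_ge c 4884 with h1 | h1
  · exact rng_spec rel27_1 c (by omega) (by omega)
  rcases Nat.lt_or_ge c 7326 with h2 | h2
  · exact rng_spec rel27_2 c (by omega) (by omega)
  rcases Nat.lt_or_ge c 9768 with h3 | h3
  · exact rng_spec rel27_3 c (by omega) (by omega)
  rcases Nat.lt_or_ge c 12210 with h4 | h4
  · exact rng_spec rel27_4 c (by omega) (by omega)
  rcases Nat.lt_or_ge c 14652 with h5 | h5
  · exact rng_spec rel27_5 c (by omega) (by omega)
  rcases Nat.lt_or_ge c 17094 with h6 | h6
  · exact rng_spec rel27_6 c (by omega) (by omega)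
  exact rng_spec rel27_7 c (by omega) (by omega)
theorem rel27 (c : ℕ) (hc : c < 19530) : run T w27 c = c := by
  have h := rel27_all c hc
  simp only [rel27_f, frc_eq, Nat.beq_eq] at h
  simpa [w27, run, T4, T8, T9, T13, T15, T17] using h
def rel30_f : ℕ → Bool := fun c => frc (t1 c) fun d1 => frc (t1 d1) fun d2 => frc (t1 d2) fun d3 => frc (t13 d3) fun d4 => frc (t1 d4) fun d5 => frc (t14 d5) fun d6 => frc (t11 d6) fun d7 => frc (t9 d7) fun d8 => frc (t10 d8) fun d9 => frc (t9 d9) fun d10 => frc (t11 d10) fun d11 => frc (t9 d11) fun d12 => Nat.beq d12 c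
theorem rel30_0 : rng rel30_f 0 2442 = true := by decide +kernel
theorem rel30_1 : rng rel30_f 2442 2442 = true := by decide +kernel
theorem rel30_2 : rng rel30_f 4884 2442 = true := by decide +kernel
theorem rel30_3 : rng rel30_f 7326 2442 = true := by decide +kernel
theorem rel30_4 : rng rel30_f 9768 2442 = true := by decide +kernel
theorem rel30_5 : rng rel30_f 12210 2442 = true := by decide +kernel
theorem rel30_6 : rng rel30_f 14652 2442 = true := by decide +kernel
theorem rel30_7 : rng rel30_f 17094 2436 = true := by decide +kernel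
theorem rel30_all (c : ℕ) (hc : c < 19530) : rel30_f c = true := by
  rcases Nat.lt_or_ge c 2442 with h0 | h0
  · exact rng_spec rel30_0 c (by omega) (by omega)
  rcases Nat.lt_or_ge c 4884 with h1 | h1
  · exact rng_spec rel30_1 c (by omega) (by omega)
  rcases Nat.lt_or_ge c 7326 with h2 | h2
  · exact rng_spec rel30_2 c (by omega) (by omega)
  rcases Nat.lt_or_ge c 9768 with h3 | h3
  · exact rng_spec rel30_3 c (by omega) (by omega)
  rcases Nat.lt_or_ge c 12210 with h4 | h4
  · exact rng_spec rel30_4 c (by omega) (by omega)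
  rcases Nat.lt_or_ge c 14652 with h5 | h5
  · exact rng_spec rel30_5 c (by omega) (by omega)
  rcases Nat.lt_or_ge c 17094 with h6 | h6
  · exact rng_spec rel30_6 c (by omega) (by omega)
  exact rng_spec rel30_7 c (by omega) (by omega)
theorem rel30 (c : ℕ) (hc : c < 19530) : run T w30 c = c := by
  have h := rel30_all c hc
  simp only [rel30_f, frc_eq, Nat.beq_eq] at h
  simpa [w30, run, T1, T9, T10, T11, T13, T14] using h
end

end Data
end Ly
end H23
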