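import Mathlib
import Cfsg.Agent.H23.Ly.Data.Rng
import Cfsg.Agent.H23.Ly.Data.RelWords

/-!
Relators fix every point (generated data).
-/

set_option autoImplicit false
set_option maxRecDepth 100000
set_option linter.all false
set_option Elab.async false

namespace H23
namespace Ly
namespace Data

noncomputable section

open H77.HN (frc frc_eq run)

def rel1_f : ℕ → Bool := fun c => frc (t3 c) fun d1 => frc (t3 d1) fun d2 => frc (t3 d2) fun d3 => frc (t3 d3) fun d4 => frc (t3 d4) fun d5 => Nat.beq d5 c
theorem rel1_0 : rng rel1_f 0 2442 = true := by decide +kernel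
theorem rel1_1 : rng rel1_f 2442 2442 = true := by decide +kernel
theorem rel1_2 : rng rel1_f 4884 2442 = true := by decide +kernel
theorem rel1_3 : rng rel1_f 7326 2442 = true := by decide +kernel
theorem rel1_4 : rng rel1_f 9768 2442 = true := by decide +kernel
theorem rel1_5 : rng rel1_f 12210 2442 = true := by decide +kernel
theorem rel1_6 : rng rel1_f 14652 2442 = true := by decide +kernel
theorem rel1_7 : rng rel1_f 17094 2436 = true := by decide +kernel
theorem rel1_all (c : ℕ) (hc : c < 19530) : rel1_f c = true := by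
  rcases Nat.lt_or_ge c 2442 with h0 | h0
  · exact rng_spec rel1_0 c (by omega) (by omega)
  rcases Nat.lt_or_ge c 4884 with h1 | h1
  · exact rng_spec rel1_1 c (by omega) (by omega)
  rcases Nat.lt_or_ge c 7326 with h2 | h2
  · exact rng_spec rel1_2 c (by omega) (by omega)
  rcases Nat.lt_or_ge c 9768 with h3 | h3
  · exact rng_spec rel1_3 c (by omega) (by omega)
  rcases Nat.lt_or_ge c 12210 with h4 | h4
  · exact rng_spec rel1_4 c (by omega) (by omega)
  rcases Nat.lt_or_ge c 14652 with h5 | h5
  · exact rng_spec rel1_5 c (by omega) (by omega)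
  rcases Nat.lt_or_ge c 17094 with h6 | h6
  · exact rng_spec rel1_6 c (by omega) (by omega)
  exact rng_spec rel1_7 c (by omega) (by omega)
theorem rel1 (c : ℕ) (hc : c < 19530) : run T w1 c = c := by
  have h := rel1_all c hc
  simp only [rel1_f, frc_eq, Nat.beq_eq] at h
  simpa [w1, run, T3] using h
def rel15_f : ℕ → Bool := fun c => frc (t17 c) fun d1 => frc (t15 d1) fun d2 => frc (t13 d2) fun d3 => frc (t14 d3) fun d4 => frc (t12 d4) fun d5 => Nat.beq d5 c
theorem rel15_0 : rng rel15_f 0 2442 = true := by decide +kernel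
theorem rel15_1 : rng rel15_f 2442 2442 = true := by decide +kernel
theorem rel15_2 : rng rel15_f 4884 2442 = true := by decide +kernel
theorem rel15_3 : rng rel15_f 7326 2442 = true := by decide +kernel
theorem rel15_4 : rng rel15_f 9768 2442 = true := by decide +kernel
theorem rel15_5 : rng rel15_f 12210 2442 = true := by decide +kernel
theorem rel15_6 : rng rel15_f 14652 2442 = true := by decide +kernel
theorem rel15_7 : rng rel15_f 17094 2436 = true := by decide +kernel
theorem rel15_all (c : ℕ) (hc : c < 19530) : rel15_f c = true := by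
  rcases Nat.lt_or_ge c 2442 with h0 | h0
  · exact rng_spec rel15_0 c (by omega) (by omega)
  rcases Nat.lt_or_ge c 4884 with h1 | h1
  · exact rng_spec rel15_1 c (by omega) (by omega)
  rcases Nat.lt_or_ge c 7326 with h2 | h2
  · exact rng_spec rel15_2 c (by omega) (by omega)
  rcases Nat.lt_or_ge c 9768 with h3 | h3
  · exact rng_spec rel15_3 c (by omega) (by omega)
  rcases Nat.lt_or_ge c 12210 with h4 | h4
  · exact rng_spec rel15_4 c (by omega) (by omega)
  rcases Nat.lt_or_ge c 14652 with h5 | h5
  · exact rng_spec rel15_5 c (by omega) (by omega)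
  rcases Nat.lt_or_ge c 17094 with h6 | h6
  · exact rng_spec rel15_6 c (by omega) (by omega)
  exact rng_spec rel15_7 c (by omega) (by omega)
theorem rel15 (c : ℕ) (hc : c < 19530) : run T w15 c = c := by
  have h := rel15_all c hc
  simp only [rel15_f, frc_eq, Nat.beq_eq] at h
  simpa [w15, run, T12, T13, T14, T15, T17] using h
def rel23_f : ℕ → Bool := fun c => frc (t9 c) fun d1 => frc (t9 d1) fun d2 => Nat.beq d2 c
theorem rel23_0 : rng rel23_f 0 2442 = true := by decide +kernel
theorem rel23_1 : rng rel23_f 2442 2442 = true := by decide +kernel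
theorem rel23_2 : rng rel23_f 4884 2442 = true := by decide +kernel
theorem rel23_3 : rng rel23_f 7326 2442 = true := by decide +kernel
theorem rel23_4 : rng rel23_f 9768 2442 = true := by decide +kernel
theorem rel23_5 : rng rel23_f 12210 2442 = true := by decide +kernel
theorem rel23_6 : rng rel23_f 14652 2442 = true := by decide +kernel
theorem rel23_7 : rng rel23_f 17094 2436 = true := by decide +kernel
theorem rel23_all (c : ℕ) (hc : c < 19530) : rel23_f c = true := by
  rcases Nat.lt_or_ge c 2442 with h0 | h0
  · exact rng_spec rel23_0 c (by omega) (by omega)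
  rcases Nat.lt_or_ge c 4884 with h1 | h1
  · exact rng_spec rel23_1 c (by omega) (by omega)
  rcases Nat.lt_or_ge c 7326 with h2 | h2
  · exact rng_spec rel23_2 c (by omega) (by omega)
  rcases Nat.lt_or_ge c 9768 with h3 | h3
  · exact rng_spec rel23_3 c (by omega) (by omega)
  rcases Nat.lt_or_ge c 12210 with h4 | h4
  · exact rng_spec rel23_4 c (by omega) (by omega)
  rcases Nat.lt_or_ge c 14652 with h5 | h5
  · exact rng_spec rel23_5 c (by omega) (by omega)
  rcases Nat.lt_or_ge c 17094 with h6 | h6
  · exact rng_spec rel23_6 c (by omega) (by omega)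
  exact rng_spec rel23_7 c (by omega) (by omega)
theorem rel23 (c : ℕ) (hc : c < 19530) : run T w23 c = c := by
  have h := rel23_all c hc
  simp only [rel23_f, frc_eq, Nat.beq_eq] at h
  simpa [w23, run, T9] using h
def rel24_f : ℕ → Bool := fun c => frc (t2 c) fun d1 => frc (t12 d1) fun d2 => frc (t2 d2) fun d3 => frc (t5 d3) fun d4 => frc (t9 d4) fun d5 => frc (t5 d5) fun d6 => frc (t8 d6) fun d7 => Nat.beq d7 c
theorem rel24_0 : rng rel24_f 0 2442 = true := by decide +kernel
theorem rel24_1 : rng rel24_f 2442 2442 = true := by decide +kernel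
theorem rel24_2 : rng rel24_f 4884 2442 = true := by decide +kernel
theorem rel24_3 : rng rel24_f 7326 2442 = true := by decide +kernel
theorem rel24_4 : rng rel24_f 9768 2442 = true := by decide +kernel
theorem rel24_5 : rng rel24_f 12210 2442 = true := by decide +kernel
theorem rel24_6 : rng rel24_f 14652 2442 = true := by decide +kernel
theorem rel24_7 : rng rel24_f 17094 2436 = true := by decide +kernel
theorem rel24_all (c : ℕ) (hc : c < 19530) : rel24_f c = true := by
  rcases Nat.lt_or_ge c 2442 with h0 | h0
  · exact rng_spec rel24_0 c (by omega) (by omega)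
  rcases Nat.lt_or_ge c 4884 with h1 | h1
  · exact rng_spec rel24_1 c (by omega) (by omega)
  rcases Nat.lt_or_ge c 7326 with h2 | h2
  · exact rng_spec rel24_2 c (by omega) (by omega)
  rcases Nat.lt_or_ge c 9768 with h3 | h3
  · exact rng_spec rel24_3 c (by omega) (by omega)
  rcases Nat.lt_or_ge c 12210 with h4 | h4
  · exact rng_spec rel24_4 c (by omega) (by omega)
  rcases Nat.lt_or_ge c 14652 with h5 | h5
  · exact rng_spec rel24_5 c (by omega) (by omega)
  rcases Nat.lt_or_ge c 17094 with h6 | h6
  · exact rng_spec rel24_6 c (by omega) (by omega)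
  exact rng_spec rel24_7 c (by omega) (by omega)
theorem rel24 (c : ℕ) (hc : c < 19530) : run T w24 c = c := by
  have h := rel24_all c hc
  simp only [rel24_f, frc_eq, Nat.beq_eq] at h
  simpa [w24, run, T2, T5, T8, T9, T12] using h
def rel25_f : ℕ → Bool := fun c => frc (t2 c) fun d1 => frc (t2 d1) fun d2 => frc (t0 d2) fun d3 => frc (t10 d3) fun d4 => frc (t5 d4) fun d5 => frc (t15 d5) fun d6 => frc (t1 d6) fun d7 => frc (t9 d7) fun d8 => frc (t13 d8) fun d9 => frc (t8 d9) fun d10 => Nat.beq d10 c
theorem rel25_0 : rng rel25_f 0 2442 = true := by decide +kernel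
theorem rel25_1 : rng rel25_f 2442 2442 = true := by decide +kernel
theorem rel25_2 : rng rel25_f 4884 2442 = true := by decide +kernel
theorem rel25_3 : rng rel25_f 7326 2442 = true := by decide +kernel
theorem rel25_4 : rng rel25_f 9768 2442 = true := by decide +kernel
theorem rel25_5 : rng rel25_f 12210 2442 = true := by decide +kernel
theorem rel25_6 : rng rel25_f 14652 2442 = true := by decide +kernel
theorem rel25_7 : rng rel25_f 17094 2436 = true := by decide +kernel
theorem rel25_all (c : ℕ) (hc : c < 19530) : rel25_f c = true := by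
  rcases Nat.lt_or_ge c 2442 with h0 | h0
  · exact rng_spec rel25_0 c (by omega) (by omega)
  rcases Nat.lt_or_ge c 4884 with h1 | h1
  · exact rng_spec rel25_1 c (by omega) (by omega)
  rcases Nat.lt_or_ge c 7326 with h2 | h2
  · exact rng_spec rel25_2 c (by omega) (by omega)
  rcases Nat.lt_or_ge c 9768 with h3 | h3
  · exact rng_spec rel25_3 c (by omega) (by omega)
  rcases Nat.lt_or_ge c 12210 with h4 | h4
  · exact rng_spec rel25_4 c (by omega) (by omega)
  rcases Nat.lt_or_ge c 14652 with h5 | h5
  · exact rng_spec rel25_5 c (by omega) (by omega)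
  rcases Nat.lt_or_ge c 17094 with h6 | h6
  · exact rng_spec rel25_6 c (by omega) (by omega)
  exact rng_spec rel25_7 c (by omega) (by omega)
theorem rel25 (c : ℕ) (hc : c < 19530) : run T w25 c = c := by
  have h := rel25_all c hc
  simp only [rel25_f, frc_eq, Nat.beq_eq] at h
  simpa [w25, run, T0, T1, T2, T5, T8, T9, T10, T13, T15] using h
end

end Data
end Ly
end H23
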