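import Mathlib
import Cfsg.Agent.H23.Ly.Data.Rng
import Cfsg.Agent.H23.Ly.Data.RelWords

/-!
Relators fix every point (generated data).
-/

set_option autoImplicit false
set_option maxRecDepth 100000
set_option linter.all false
set_option Elab.async false

namespace H23
namespace Ly
namespace Data

noncomputable section

open H77.HN (frc frc_eq run)

def rel3_f : ℕ → Bool := fun c => frc (t3 c) fun d1 => frc (t1 d1) fun d2 => frc (t1 d2) fun d3 => frc (t2 d3) fun d4 => frc (t0 d4) fun d5 => frc (t0 d5) fun d6 => Nat.beq d6 c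
theorem rel3_0 : rng rel3_f 0 2442 = true := by decide +kernel
theorem rel3_1 : rng rel3_f 2442 2442 = true := by decide +kernel
theorem rel3_2 : rng rel3_f 4884 2442 = true := by decide +kernel
theorem rel3_3 : rng rel3_f 7326 2442 = true := by decide +kernel
theorem rel3_4 : rng rel3_f 9768 2442 = true := by decide +kernel
theorem rel3_5 : rng rel3_f 12210 2442 = true := by decide +kernel
theorem rel3_6 : rng rel3_f 14652 2442 = true := by decide +kernel
theorem rel3_7 : rng rel3_f 17094 2436 = true := by decide +kernel
theorem rel3_all (c : ℕ) (hc : c < 19530) : rel3_f c = true := by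
  rcases Nat.lt_or_ge c 2442 with h0 | h0
  · exact rng_spec rel3_0 c (by omega) (by omega)
  rcases Nat.lt_or_ge c 4884 with h1 | h1
  · exact rng_spec rel3_1 c (by omega) (by omega)
  rcases Nat.lt_or_ge c 7326 with h2 | h2
  · exact rng_spec rel3_2 c (by omega) (by omega)
  rcases Nat.lt_or_ge c 9768 with h3 | h3
  · exact rng_spec rel3_3 c (by omega) (by omega)
  rcases Nat.lt_or_ge c 12210 with h4 | h4
  · exact rng_spec rel3_4 c (by omega) (by omega)
  rcases Nat.lt_or_ge c 14652 with h5 | h5
  · exact rng_spec rel3_5 c (by omega) (by omega)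
  rcases Nat.lt_or_ge c 17094 with h6 | h6
  · exact rng_spec rel3_6 c (by omega) (by omega)
  exact rng_spec rel3_7 c (by omega) (by omega)
theorem rel3 (c : ℕ) (hc : c < 19530) : run T w3 c = c := by
  have h := rel3_all c hc
  simp only [rel3_f, frc_eq, Nat.beq_eq] at h
  simpa [w3, run, T0, T1, T2, T3] using h
def rel16_f : ℕ → Bool := fun c => frc (t5 c) fun d1 => frc (t5 d1) fun d2 => frc (t1 d2) fun d3 => frc (t11 d3) fun d4 => frc (t0 d4) fun d5 => Nat.beq d5 c
theorem rel16_0 : rng rel16_f 0 2442 = true := by decide +kernel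
theorem rel16_1 : rng rel16_f 2442 2442 = true := by decide +kernel
theorem rel16_2 : rng rel16_f 4884 2442 = true := by decide +kernel
theorem rel16_3 : rng rel16_f 7326 2442 = true := by decide +kernel
theorem rel16_4 : rng rel16_f 9768 2442 = true := by decide +kernel
theorem rel16_5 : rng rel16_f 12210 2442 = true := by decide +kernel
theorem rel16_6 : rng rel16_f 14652 2442 = true := by decide +kernel
theorem rel16_7 : rng rel16_f 17094 2436 = true := by decide +kernel
theorem rel16_all (c : ℕ) (hc : c < 19530) : rel16_f c = true := by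
  rcases Nat.lt_or_ge c 2442 with h0 | h0
  · exact rng_spec rel16_0 c (by omega) (by omega)
  rcases Nat.lt_or_ge c 4884 with h1 | h1
  · exact rng_spec rel16_1 c (by omega) (by omega)
  rcases Nat.lt_or_ge c 7326 with h2 | h2
  · exact rng_spec rel16_2 c (by omega) (by omega)
  rcases Nat.lt_or_ge c 9768 with h3 | h3
  · exact rng_spec rel16_3 c (by omega) (by omega)
  rcases Nat.lt_or_ge c 12210 with h4 | h4
  · exact rng_spec rel16_4 c (by omega) (by omega)
  rcases Nat.lt_or_ge c 14652 with h5 | h5
  · exact rng_spec rel16_5 c (by omega) (by omega)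
  rcases Nat.lt_or_ge c 17094 with h6 | h6
  · exact rng_spec rel16_6 c (by omega) (by omega)
  exact rng_spec rel16_7 c (by omega) (by omega)
theorem rel16 (c : ℕ) (hc : c < 19530) : run T w16 c = c := by
  have h := rel16_all c hc
  simp only [rel16_f, frc_eq, Nat.beq_eq] at h
  simpa [w16, run, T0, T1, T5, T11] using h
def rel17_f : ℕ → Bool := fun c => frc (t13 c) fun d1 => frc (t13 d1) fun d2 => frc (t4 d2) fun d3 => frc (t14 d3) fun d4 => frc (t1 d4) fun d5 => frc (t13 d5) fun d6 => frc (t0 d6) fun d7 => Nat.beq d7 c
theorem rel17_0 : rng rel17_f 0 2442 = true := by decide +kernel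
theorem rel17_1 : rng rel17_f 2442 2442 = true := by decide +kernel
theorem rel17_2 : rng rel17_f 4884 2442 = true := by decide +kernel
theorem rel17_3 : rng rel17_f 7326 2442 = true := by decide +kernel
theorem rel17_4 : rng rel17_f 9768 2442 = true := by decide +kernel
theorem rel17_5 : rng rel17_f 12210 2442 = true := by decide +kernel
theorem rel17_6 : rng rel17_f 14652 2442 = true := by decide +kernel
theorem rel17_7 : rng rel17_f 17094 2436 = true := by decide +kernel
theorem rel17_all (c : ℕ) (hc : c < 19530) : rel17_f c = true := by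
  rcases Nat.lt_or_ge c 2442 with h0 | h0
  · exact rng_spec rel17_0 c (by omega) (by omega)
  rcases Nat.lt_or_ge c 4884 with h1 | h1
  · exact rng_spec rel17_1 c (by omega) (by omega)
  rcases Nat.lt_or_ge c 7326 with h2 | h2
  · exact rng_spec rel17_2 c (by omega) (by omega)
  rcases Nat.lt_or_ge c 9768 with h3 | h3
  · exact rng_spec rel17_3 c (by omega) (by omega)
  rcases Nat.lt_or_ge c 12210 with h4 | h4
  · exact rng_spec rel17_4 c (by omega) (by omega)
  rcases Nat.lt_or_ge c 14652 with h5 | h5
  · exact rng_spec rel17_5 c (by omega) (by omega)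
  rcases Nat.lt_or_ge c 17094 with h6 | h6
  · exact rng_spec rel17_6 c (by omega) (by omega)
  exact rng_spec rel17_7 c (by omega) (by omega)
theorem rel17 (c : ℕ) (hc : c < 19530) : run T w17 c = c := by
  have h := rel17_all c hc
  simp only [rel17_f, frc_eq, Nat.beq_eq] at h
  simpa [w17, run, T0, T1, T4, T13, T14] using h
def rel18_f : ℕ → Bool := fun c => frc (t4 c) fun d1 => frc (t11 d1) fun d2 => frc (t13 d2) fun d3 => frc (t14 d3) fun d4 => frc (t4 d4) fun d5 => frc (t14 d5) fun d6 => frc (t1 d6) fun d7 => frc (t15 d7) fun d8 => frc (t0 d8) fun d9 => Nat.beq d9 c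
theorem rel18_0 : rng rel18_f 0 2442 = true := by decide +kernel
theorem rel18_1 : rng rel18_f 2442 2442 = true := by decide +kernel
theorem rel18_2 : rng rel18_f 4884 2442 = true := by decide +kernel
theorem rel18_3 : rng rel18_f 7326 2442 = true := by decide +kernel
theorem rel18_4 : rng rel18_f 9768 2442 = true := by decide +kernel
theorem rel18_5 : rng rel18_f 12210 2442 = true := by decide +kernel
theorem rel18_6 : rng rel18_f 14652 2442 = true := by decide +kernel
theorem rel18_7 : rng rel18_f 17094 2436 = true := by decide +kernel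
theorem rel18_all (c : ℕ) (hc : c < 19530) : rel18_f c = true := by
  rcases Nat.lt_or_ge c 2442 with h0 | h0
  · exact rng_spec rel18_0 c (by omega) (by omega)
  rcases Nat.lt_or_ge c 4884 with h1 | h1
  · exact rng_spec rel18_1 c (by omega) (by omega)
  rcases Nat.lt_or_ge c 7326 with h2 | h2
  · exact rng_spec rel18_2 c (by omega) (by omega)
  rcases Nat.lt_or_ge c 9768 with h3 | h3
  · exact rng_spec rel18_3 c (by omega) (by omega)
  rcases Nat.lt_or_ge c 12210 with h4 | h4
  · exact rng_spec rel18_4 c (by omega) (by omega)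
  rcases Nat.lt_or_ge c 14652 with h5 | h5
  · exact rng_spec rel18_5 c (by omega) (by omega)
  rcases Nat.lt_or_ge c 17094 with h6 | h6
  · exact rng_spec rel18_6 c (by omega) (by omega)
  exact rng_spec rel18_7 c (by omega) (by omega)
theorem rel18 (c : ℕ) (hc : c < 19530) : run T w18 c = c := by
  have h := rel18_all c hc
  simp only [rel18_f, frc_eq, Nat.beq_eq] at h
  simpa [w18, run, T0, T1, T4, T11, T13, T14, T15] using h
end

end Data
end Ly
end H23
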