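import Mathlib
import Cfsg.Agent.H23.Ly.Data.Rng
import Cfsg.Agent.H23.Ly.Data.RelWords

/-!
Relators fix every point (generated data).
-/

set_option autoImplicit false
set_option maxRecDepth 100000
set_option linter.all false
set_option Elab.async false

namespace H23
namespace Ly
namespace Data

noncomputable section

open H77.HN (frc frc_eq run)

def rel0_f : ℕ → Bool := fun c => frc (t1 c) fun d1 => frc (t1 d1) fun d2 => frc (t1 d2) fun d3 => frc (t1 d3) fun d4 => frc (t1 d4) fun d5 => frc (t1 d5) fun d6 => frc (t1 d6) fun d7 => frc (t1 d7) fun d8 => Nat.beq d8 c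
theorem rel0_0 : rng rel0_f 0 2442 = true := by decide +kernel
theorem rel0_1 : rng rel0_f 2442 2442 = true := by decide +kernel
theorem rel0_2 : rng rel0_f 4884 2442 = true := by decide +kernel
theorem rel0_3 : rng rel0_f 7326 2442 = true := by decide +kernel
theorem rel0_4 : rng rel0_f 9768 2442 = true := by decide +kernel
theorem rel0_5 : rng rel0_f 12210 2442 = true := by decide +kernel
theorem rel0_6 : rng rel0_f 14652 2442 = true := by decide +kernel
theorem rel0_7 : rng rel0_f 17094 2436 = true := by decide +kernel
theorem rel0_all (c : ℕ) (hc : c < 19530) : rel0_f c = true := by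
  rcases Nat.lt_or_ge c 2442 with h0 | h0
  · exact rng_spec rel0_0 c (by omega) (by omega)
  rcases Nat.lt_or_ge c 4884 with h1 | h1
  · exact rng_spec rel0_1 c (by omega) (by omega)
  rcases Nat.lt_or_ge c 7326 with h2 | h2
  · exact rng_spec rel0_2 c (by omega) (by omega)
  rcases Nat.lt_or_ge c 9768 with h3 | h3
  · exact rng_spec rel0_3 c (by omega) (by omega)
  rcases Nat.lt_or_ge c 12210 with h4 | h4
  · exact rng_spec rel0_4 c (by omega) (by omega)
  rcases Nat.lt_or_ge c 14652 with h5 | h5
  · exact rng_spec rel0_5 c (by omega) (by omega)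
  rcases Nat.lt_or_ge c 17094 with h6 | h6
  · exact rng_spec rel0_6 c (by omega) (by omega)
  exact rng_spec rel0_7 c (by omega) (by omega)
theorem rel0 (c : ℕ) (hc : c < 19530) : run T w0 c = c := by
  have h := rel0_all c hc
  simp only [rel0_f, frc_eq, Nat.beq_eq] at h
  simpa [w0, run, T1] using h
def rel11_f : ℕ → Bool := fun c => frc (t17 c) fun d1 => frc (t17 d1) fun d2 => frc (t13 d2) fun d3 => frc (t5 d3) fun d4 => frc (t12 d4) fun d5 => frc (t4 d5) fun d6 => Nat.beq d6 c
theorem rel11_0 : rng rel11_f 0 2442 = true := by decide +kernel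
theorem rel11_1 : rng rel11_f 2442 2442 = true := by decide +kernel
theorem rel11_2 : rng rel11_f 4884 2442 = true := by decide +kernel
theorem rel11_3 : rng rel11_f 7326 2442 = true := by decide +kernel
theorem rel11_4 : rng rel11_f 9768 2442 = true := by decide +kernel
theorem rel11_5 : rng rel11_f 12210 2442 = true := by decide +kernel
theorem rel11_6 : rng rel11_f 14652 2442 = true := by decide +kernel
theorem rel11_7 : rng rel11_f 17094 2436 = true := by decide +kernel
theorem rel11_all (c : ℕ) (hc : c < 19530) : rel11_f c = true := by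
  rcases Nat.lt_or_ge c 2442 with h0 | h0
  · exact rng_spec rel11_0 c (by omega) (by omega)
  rcases Nat.lt_or_ge c 4884 with h1 | h1
  · exact rng_spec rel11_1 c (by omega) (by omega)
  rcases Nat.lt_or_ge c 7326 with h2 | h2
  · exact rng_spec rel11_2 c (by omega) (by omega)
  rcases Nat.lt_or_ge c 9768 with h3 | h3
  · exact rng_spec rel11_3 c (by omega) (by omega)
  rcases Nat.lt_or_ge c 12210 with h4 | h4
  · exact rng_spec rel11_4 c (by omega) (by omega)
  rcases Nat.lt_or_ge c 14652 with h5 | h5
  · exact rng_spec rel11_5 c (by omega) (by omega)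
  rcases Nat.lt_or_ge c 17094 with h6 | h6
  · exact rng_spec rel11_6 c (by omega) (by omega)
  exact rng_spec rel11_7 c (by omega) (by omega)
theorem rel11 (c : ℕ) (hc : c < 19530) : run T w11 c = c := by
  have h := rel11_all c hc
  simp only [rel11_f, frc_eq, Nat.beq_eq] at h
  simpa [w11, run, T4, T5, T12, T13, T17] using h
def rel19_f : ℕ → Bool := fun c => frc (t16 c) fun d1 => frc (t16 d1) fun d2 => frc (t1 d2) fun d3 => frc (t17 d3) fun d4 => frc (t0 d4) fun d5 => Nat.beq d5 c
theorem rel19_0 : rng rel19_f 0 2442 = true := by decide +kernel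
theorem rel19_1 : rng rel19_f 2442 2442 = true := by decide +kernel
theorem rel19_2 : rng rel19_f 4884 2442 = true := by decide +kernel
theorem rel19_3 : rng rel19_f 7326 2442 = true := by decide +kernel
theorem rel19_4 : rng rel19_f 9768 2442 = true := by decide +kernel
theorem rel19_5 : rng rel19_f 12210 2442 = true := by decide +kernel
theorem rel19_6 : rng rel19_f 14652 2442 = true := by decide +kernel
theorem rel19_7 : rng rel19_f 17094 2436 = true := by decide +kernel
theorem rel19_all (c : ℕ) (hc : c < 19530) : rel19_f c = true := by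
  rcases Nat.lt_or_ge c 2442 with h0 | h0
  · exact rng_spec rel19_0 c (by omega) (by omega)
  rcases Nat.lt_or_ge c 4884 with h1 | h1
  · exact rng_spec rel19_1 c (by omega) (by omega)
  rcases Nat.lt_or_ge c 7326 with h2 | h2
  · exact rng_spec rel19_2 c (by omega) (by omega)
  rcases Nat.lt_or_ge c 9768 with h3 | h3
  · exact rng_spec rel19_3 c (by omega) (by omega)
  rcases Nat.lt_or_ge c 12210 with h4 | h4
  · exact rng_spec rel19_4 c (by omega) (by omega)
  rcases Nat.lt_or_ge c 14652 with h5 | h5
  · exact rng_spec rel19_5 c (by omega) (by omega)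
  rcases Nat.lt_or_ge c 17094 with h6 | h6
  · exact rng_spec rel19_6 c (by omega) (by omega)
  exact rng_spec rel19_7 c (by omega) (by omega)
theorem rel19 (c : ℕ) (hc : c < 19530) : run T w19 c = c := by
  have h := rel19_all c hc
  simp only [rel19_f, frc_eq, Nat.beq_eq] at h
  simpa [w19, run, T0, T1, T16, T17] using h
def rel20_f : ℕ → Bool := fun c => frc (t10 c) fun d1 => frc (t12 d1) fun d2 => frc (t15 d2) fun d3 => frc (t5 d3) fun d4 => frc (t15 d4) fun d5 => frc (t3 d5) fun d6 => frc (t11 d6) fun d7 => frc (t2 d7) fun d8 => Nat.beq d8 c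
theorem rel20_0 : rng rel20_f 0 2442 = true := by decide +kernel
theorem rel20_1 : rng rel20_f 2442 2442 = true := by decide +kernel
theorem rel20_2 : rng rel20_f 4884 2442 = true := by decide +kernel
theorem rel20_3 : rng rel20_f 7326 2442 = true := by decide +kernel
theorem rel20_4 : rng rel20_f 9768 2442 = true := by decide +kernel
theorem rel20_5 : rng rel20_f 12210 2442 = true := by decide +kernel
theorem rel20_6 : rng rel20_f 14652 2442 = true := by decide +kernel
theorem rel20_7 : rng rel20_f 17094 2436 = true := by decide +kernel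
theorem rel20_all (c : ℕ) (hc : c < 19530) : rel20_f c = true := by
  rcases Nat.lt_or_ge c 2442 with h0 | h0
  · exact rng_spec rel20_0 c (by omega) (by omega)
  rcases Nat.lt_or_ge c 4884 with h1 | h1
  · exact rng_spec rel20_1 c (by omega) (by omega)
  rcases Nat.lt_or_ge c 7326 with h2 | h2
  · exact rng_spec rel20_2 c (by omega) (by omega)
  rcases Nat.lt_or_ge c 9768 with h3 | h3
  · exact rng_spec rel20_3 c (by omega) (by omega)
  rcases Nat.lt_or_ge c 12210 with h4 | h4
  · exact rng_spec rel20_4 c (by omega) (by omega)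
  rcases Nat.lt_or_ge c 14652 with h5 | h5
  · exact rng_spec rel20_5 c (by omega) (by omega)
  rcases Nat.lt_or_ge c 17094 with h6 | h6
  · exact rng_spec rel20_6 c (by omega) (by omega)
  exact rng_spec rel20_7 c (by omega) (by omega)
theorem rel20 (c : ℕ) (hc : c < 19530) : run T w20 c = c := by
  have h := rel20_all c hc
  simp only [rel20_f, frc_eq, Nat.beq_eq] at h
  simpa [w20, run, T2, T3, T5, T10, T11, T12, T15] using h
end

end Data
end Ly
end H23
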