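import Mathlib
import Cfsg.Agent.H23.Ly.Data.Rng
import Cfsg.Agent.H23.Ly.Data.RelWords

/-!
Relators fix every point (generated data).
-/

set_option autoImplicit false
set_option maxRecDepth 100000
set_option linter.all false
set_option Elab.async false

namespace H23
namespace Ly
namespace Data

noncomputable section

open H77.HN (frc frc_eq run)

def rel2_f : ℕ → Bool := fun c => frc (t3 c) fun d1 => frc (t1 d1) fun d2 => frc (t3 d2) fun d3 => frc (t1 d3) fun d4 => frc (t3 d4) fun d5 => frc (t1 d5) fun d6 => frc (t3 d6) fun d7 => frc (t1 d7) fun d8 => Nat.beq d8 c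
theorem rel2_0 : rng rel2_f 0 2442 = true := by decide +kernel
theorem rel2_1 : rng rel2_f 2442 2442 = true := by decide +kernel
theorem rel2_2 : rng rel2_f 4884 2442 = true := by decide +kernel
theorem rel2_3 : rng rel2_f 7326 2442 = true := by decide +kernel
theorem rel2_4 : rng rel2_f 9768 2442 = true := by decide +kernel
theorem rel2_5 : rng rel2_f 12210 2442 = true := by decide +kernel
theorem rel2_6 : rng rel2_f 14652 2442 = true := by decide +kernel
theorem rel2_7 : rng rel2_f 17094 2436 = true := by decide +kernel
theorem rel2_all (c : ℕ) (hc : c < 19530) : rel2_f c = true := by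
  rcases Nat.lt_or_ge c 2442 with h0 | h0
  · exact rng_spec rel2_0 c (by omega) (by omega)
  rcases Nat.lt_or_ge c 4884 with h1 | h1
  · exact rng_spec rel2_1 c (by omega) (by omega)
  rcases Nat.lt_or_ge c 7326 with h2 | h2
  · exact rng_spec rel2_2 c (by omega) (by omega)
  rcases Nat.lt_or_ge c 9768 with h3 | h3
  · exact rng_spec rel2_3 c (by omega) (by omega)
  rcases Nat.lt_or_ge c 12210 with h4 | h4
  · exact rng_spec rel2_4 c (by omega) (by omega)
  rcases Nat.lt_or_ge c 14652 with h5 | h5
  · exact rng_spec rel2_5 c (by omega) (by omega)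
  rcases Nat.lt_or_ge c 17094 with h6 | h6
  · exact rng_spec rel2_6 c (by omega) (by omega)
  exact rng_spec rel2_7 c (by omega) (by omega)
theorem rel2 (c : ℕ) (hc : c < 19530) : run T w2 c = c := by
  have h := rel2_all c hc
  simp only [rel2_f, frc_eq, Nat.beq_eq] at h
  simpa [w2, run, T1, T3] using h
def rel7_f : ℕ → Bool := fun c => frc (t17 c) fun d1 => frc (t5 d1) fun d2 => frc (t16 d2) fun d3 => frc (t4 d3) fun d4 => Nat.beq d4 c
theorem rel7_0 : rng rel7_f 0 2442 = true := by decide +kernel
theorem rel7_1 : rng rel7_f 2442 2442 = true := by decide +kernel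
theorem rel7_2 : rng rel7_f 4884 2442 = true := by decide +kernel
theorem rel7_3 : rng rel7_f 7326 2442 = true := by decide +kernel
theorem rel7_4 : rng rel7_f 9768 2442 = true := by decide +kernel
theorem rel7_5 : rng rel7_f 12210 2442 = true := by decide +kernel
theorem rel7_6 : rng rel7_f 14652 2442 = true := by decide +kernel
theorem rel7_7 : rng rel7_f 17094 2436 = true := by decide +kernel
theorem rel7_all (c : ℕ) (hc : c < 19530) : rel7_f c = true := by
  rcases Nat.lt_or_ge c 2442 with h0 | h0
  · exact rng_spec rel7_0 c (by omega) (by omega)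
  rcases Nat.lt_or_ge c 4884 with h1 | h1
  · exact rng_spec rel7_1 c (by omega) (by omega)
  rcases Nat.lt_or_ge c 7326 with h2 | h2
  · exact rng_spec rel7_2 c (by omega) (by omega)
  rcases Nat.lt_or_ge c 9768 with h3 | h3
  · exact rng_spec rel7_3 c (by omega) (by omega)
  rcases Nat.lt_or_ge c 12210 with h4 | h4
  · exact rng_spec rel7_4 c (by omega) (by omega)
  rcases Nat.lt_or_ge c 14652 with h5 | h5
  · exact rng_spec rel7_5 c (by omega) (by omega)
  rcases Nat.lt_or_ge c 17094 with h6 | h6
  · exact rng_spec rel7_6 c (by omega) (by omega)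
  exact rng_spec rel7_7 c (by omega) (by omega)
theorem rel7 (c : ℕ) (hc : c < 19530) : run T w7 c = c := by
  have h := rel7_all c hc
  simp only [rel7_f, frc_eq, Nat.beq_eq] at h
  simpa [w7, run, T4, T5, T16, T17] using h
def rel12_f : ℕ → Bool := fun c => frc (t16 c) fun d1 => frc (t16 d1) fun d2 => frc (t15 d2) fun d3 => frc (t5 d3) fun d4 => frc (t14 d4) fun d5 => frc (t4 d5) fun d6 => Nat.beq d6 c
theorem rel12_0 : rng rel12_f 0 2442 = true := by decide +kernel
theorem rel12_1 : rng rel12_f 2442 2442 = true := by decide +kernel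
theorem rel12_2 : rng rel12_f 4884 2442 = true := by decide +kernel
theorem rel12_3 : rng rel12_f 7326 2442 = true := by decide +kernel
theorem rel12_4 : rng rel12_f 9768 2442 = true := by decide +kernel
theorem rel12_5 : rng rel12_f 12210 2442 = true := by decide +kernel
theorem rel12_6 : rng rel12_f 14652 2442 = true := by decide +kernel
theorem rel12_7 : rng rel12_f 17094 2436 = true := by decide +kernel
theorem rel12_all (c : ℕ) (hc : c < 19530) : rel12_f c = true := by
  rcases Nat.lt_or_ge c 2442 with h0 | h0
  · exact rng_spec rel12_0 c (by omega) (by omega)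
  rcases Nat.lt_or_ge c 4884 with h1 | h1
  · exact rng_spec rel12_1 c (by omega) (by omega)
  rcases Nat.lt_or_ge c 7326 with h2 | h2
  · exact rng_spec rel12_2 c (by omega) (by omega)
  rcases Nat.lt_or_ge c 9768 with h3 | h3
  · exact rng_spec rel12_3 c (by omega) (by omega)
  rcases Nat.lt_or_ge c 12210 with h4 | h4
  · exact rng_spec rel12_4 c (by omega) (by omega)
  rcases Nat.lt_or_ge c 14652 with h5 | h5
  · exact rng_spec rel12_5 c (by omega) (by omega)
  rcases Nat.lt_or_ge c 17094 with h6 | h6
  · exact rng_spec rel12_6 c (by omega) (by omega)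
  exact rng_spec rel12_7 c (by omega) (by omega)
theorem rel12 (c : ℕ) (hc : c < 19530) : run T w12 c = c := by
  have h := rel12_all c hc
  simp only [rel12_f, frc_eq, Nat.beq_eq] at h
  simpa [w12, run, T4, T5, T14, T15, T16] using h
def rel21_f : ℕ → Bool := fun c => frc (t4 c) fun d1 => frc (t4 d1) fun d2 => frc (t14 d2) fun d3 => frc (t13 d3) fun d4 => frc (t13 d4) fun d5 => frc (t3 d5) fun d6 => frc (t13 d6) fun d7 => frc (t2 d7) fun d8 => Nat.beq d8 c
theorem rel21_0 : rng rel21_f 0 2442 = true := by decide +kernel
theorem rel21_1 : rng rel21_f 2442 2442 = true := by decide +kernel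
theorem rel21_2 : rng rel21_f 4884 2442 = true := by decide +kernel
theorem rel21_3 : rng rel21_f 7326 2442 = true := by decide +kernel
theorem rel21_4 : rng rel21_f 9768 2442 = true := by decide +kernel
theorem rel21_5 : rng rel21_f 12210 2442 = true := by decide +kernel
theorem rel21_6 : rng rel21_f 14652 2442 = true := by decide +kernel
theorem rel21_7 : rng rel21_f 17094 2436 = true := by decide +kernel
theorem rel21_all (c : ℕ) (hc : c < 19530) : rel21_f c = true := by
  rcases Nat.lt_or_ge c 2442 with h0 | h0
  · exact rng_spec rel21_0 c (by omega) (by omega)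
  rcases Nat.lt_or_ge c 4884 with h1 | h1
  · exact rng_spec rel21_1 c (by omega) (by omega)
  rcases Nat.lt_or_ge c 7326 with h2 | h2
  · exact rng_spec rel21_2 c (by omega) (by omega)
  rcases Nat.lt_or_ge c 9768 with h3 | h3
  · exact rng_spec rel21_3 c (by omega) (by omega)
  rcases Nat.lt_or_ge c 12210 with h4 | h4
  · exact rng_spec rel21_4 c (by omega) (by omega)
  rcases Nat.lt_or_ge c 14652 with h5 | h5
  · exact rng_spec rel21_5 c (by omega) (by omega)
  rcases Nat.lt_or_ge c 17094 with h6 | h6
  · exact rng_spec rel21_6 c (by omega) (by omega)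
  exact rng_spec rel21_7 c (by omega) (by omega)
theorem rel21 (c : ℕ) (hc : c < 19530) : run T w21 c = c := by
  have h := rel21_all c hc
  simp only [rel21_f, frc_eq, Nat.beq_eq] at h
  simpa [w21, run, T2, T3, T4, T13, T14] using h
def rel22_f : ℕ → Bool := fun c => frc (t16 c) fun d1 => frc (t3 d1) fun d2 => frc (t17 d2) fun d3 => frc (t2 d3) fun d4 => Nat.beq d4 c
theorem rel22_0 : rng rel22_f 0 2442 = true := by decide +kernel
theorem rel22_1 : rng rel22_f 2442 2442 = true := by decide +kernel
theorem rel22_2 : rng rel22_f 4884 2442 = true := by decide +kernel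
theorem rel22_3 : rng rel22_f 7326 2442 = true := by decide +kernel
theorem rel22_4 : rng rel22_f 9768 2442 = true := by decide +kernel
theorem rel22_5 : rng rel22_f 12210 2442 = true := by decide +kernel
theorem rel22_6 : rng rel22_f 14652 2442 = true := by decide +kernel
theorem rel22_7 : rng rel22_f 17094 2436 = true := by decide +kernel
theorem rel22_all (c : ℕ) (hc : c < 19530) : rel22_f c = true := by
  rcases Nat.lt_or_ge c 2442 with h0 | h0
  · exact rng_spec rel22_0 c (by omega) (by omega)
  rcases Nat.lt_or_ge c 4884 with h1 | h1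
  · exact rng_spec rel22_1 c (by omega) (by omega)
  rcases Nat.lt_or_ge c 7326 with h2 | h2
  · exact rng_spec rel22_2 c (by omega) (by omega)
  rcases Nat.lt_or_ge c 9768 with h3 | h3
  · exact rng_spec rel22_3 c (by omega) (by omega)
  rcases Nat.lt_or_ge c 12210 with h4 | h4
  · exact rng_spec rel22_4 c (by omega) (by omega)
  rcases Nat.lt_or_ge c 14652 with h5 | h5
  · exact rng_spec rel22_5 c (by omega) (by omega)
  rcases Nat.lt_or_ge c 17094 with h6 | h6
  · exact rng_spec rel22_6 c (by omega) (by omega)
  exact rng_spec rel22_7 c (by omega) (by omega)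
theorem rel22 (c : ℕ) (hc : c < 19530) : run T w22 c = c := by
  have h := rel22_all c hc
  simp only [rel22_f, frc_eq, Nat.beq_eq] at h
  simpa [w22, run, T2, T3, T16, T17] using h
end

end Data
end Ly
end H23
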