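import Mathlib
import Cfsg.Agent.H23.Ly.Data.Rng

/-!
Letters undo each other (generated data).
-/

set_option autoImplicit false
set_option maxRecDepth 100000
set_option linter.all false
set_option Elab.async false

namespace H23
namespace Ly
namespace Data

noncomputable section

open H77.HN (frc frc_eq run)

def undo0_f : ℕ → Bool := fun c => frc (t1 c) fun d => Bool.rec (motive := fun _ => Bool) false (Nat.beq (t0 d) c) (Nat.blt d 19530)
theorem undo0_0 : rng undo0_f 0 9765 = true := by decide +kernel
theorem undo0_1 : rng undo0_f 9765 9765 = true := by decide +kernel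
theorem undo0 (c : ℕ) (hc : c < 19530) : T 0 (T 1 c) = c ∧ T 1 c < 19530 := by
  have h : undo0_f c = true := by
    rcases Nat.lt_or_ge c 9765 with h | h
    · exact rng_spec undo0_0 c (by omega) (by omega)
    · exact rng_spec undo0_1 c (by omega) (by omega)
  simp only [undo0_f, frc_eq] at h
  rw [T0, T1]
  cases hb : Nat.blt (t1 c) 19530 <;> rw [hb] at h
  · exact absurd h (by simp)
  · exact ⟨Nat.eq_of_beq_eq_true h, Nat.le_of_ble_eq_true hb⟩
def undo1_f : ℕ → Bool := fun c => frc (t0 c) fun d => Bool.rec (motive := fun _ => Bool) false (Nat.beq (t1 d) c) (Nat.blt d 19530)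
theorem undo1_0 : rng undo1_f 0 9765 = true := by decide +kernel
theorem undo1_1 : rng undo1_f 9765 9765 = true := by decide +kernel
theorem undo1 (c : ℕ) (hc : c < 19530) : T 1 (T 0 c) = c ∧ T 0 c < 19530 := by
  have h : undo1_f c = true := by
    rcases Nat.lt_or_ge c 9765 with h | h
    · exact rng_spec undo1_0 c (by omega) (by omega)
    · exact rng_spec undo1_1 c (by omega) (by omega)
  simp only [undo1_f, frc_eq] at h
  rw [T1, T0]
  cases hb : Nat.blt (t0 c) 19530 <;> rw [hb] at h
  · exact absurd h (by simp)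
  · exact ⟨Nat.eq_of_beq_eq_true h, Nat.le_of_ble_eq_true hb⟩
def undo2_f : ℕ → Bool := fun c => frc (t3 c) fun d => Bool.rec (motive := fun _ => Bool) false (Nat.beq (t2 d) c) (Nat.blt d 19530)
theorem undo2_0 : rng undo2_f 0 9765 = true := by decide +kernel
theorem undo2_1 : rng undo2_f 9765 9765 = true := by decide +kernel
theorem undo2 (c : ℕ) (hc : c < 19530) : T 2 (T 3 c) = c ∧ T 3 c < 19530 := by
  have h : undo2_f c = true := by
    rcases Nat.lt_or_ge c 9765 with h | h
    · exact rng_spec undo2_0 c (by omega) (by omega)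
    · exact rng_spec undo2_1 c (by omega) (by omega)
  simp only [undo2_f, frc_eq] at h
  rw [T2, T3]
  cases hb : Nat.blt (t3 c) 19530 <;> rw [hb] at h
  · exact absurd h (by simp)
  · exact ⟨Nat.eq_of_beq_eq_true h, Nat.le_of_ble_eq_true hb⟩
def undo3_f : ℕ → Bool := fun c => frc (t2 c) fun d => Bool.rec (motive := fun _ => Bool) false (Nat.beq (t3 d) c) (Nat.blt d 19530)
theorem undo3_0 : rng undo3_f 0 9765 = true := by decide +kernel
theorem undo3_1 : rng undo3_f 9765 9765 = true := by decide +kernel
theorem undo3 (c : ℕ) (hc : c < 19530) : T 3 (T 2 c) = c ∧ T 2 c < 19530 := by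
  have h : undo3_f c = true := by
    rcases Nat.lt_or_ge c 9765 with h | h
    · exact rng_spec undo3_0 c (by omega) (by omega)
    · exact rng_spec undo3_1 c (by omega) (by omega)
  simp only [undo3_f, frc_eq] at h
  rw [T3, T2]
  cases hb : Nat.blt (t2 c) 19530 <;> rw [hb] at h
  · exact absurd h (by simp)
  · exact ⟨Nat.eq_of_beq_eq_true h, Nat.le_of_ble_eq_true hb⟩
def undo4_f : ℕ → Bool := fun c => frc (t5 c) fun d => Bool.rec (motive := fun _ => Bool) false (Nat.beq (t4 d) c) (Nat.blt d 19530)
theorem undo4_0 : rng undo4_f 0 9765 = true := by decide +kernel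
theorem undo4_1 : rng undo4_f 9765 9765 = true := by decide +kernel
theorem undo4 (c : ℕ) (hc : c < 19530) : T 4 (T 5 c) = c ∧ T 5 c < 19530 := by
  have h : undo4_f c = true := by
    rcases Nat.lt_or_ge c 9765 with h | h
    · exact rng_spec undo4_0 c (by omega) (by omega)
    · exact rng_spec undo4_1 c (by omega) (by omega)
  simp only [undo4_f, frc_eq] at h
  rw [T4, T5]
  cases hb : Nat.blt (t5 c) 19530 <;> rw [hb] at h
  · exact absurd h (by simp)
  · exact ⟨Nat.eq_of_beq_eq_true h, Nat.le_of_ble_eq_true hb⟩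
def undo5_f : ℕ → Bool := fun c => frc (t4 c) fun d => Bool.rec (motive := fun _ => Bool) false (Nat.beq (t5 d) c) (Nat.blt d 19530)
theorem undo5_0 : rng undo5_f 0 9765 = true := by decide +kernel
theorem undo5_1 : rng undo5_f 9765 9765 = true := by decide +kernel
theorem undo5 (c : ℕ) (hc : c < 19530) : T 5 (T 4 c) = c ∧ T 4 c < 19530 := by
  have h : undo5_f c = true := by
    rcases Nat.lt_or_ge c 9765 with h | h
    · exact rng_spec undo5_0 c (by omega) (by omega)
    · exact rng_spec undo5_1 c (by omega) (by omega)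
  simp only [undo5_f, frc_eq] at h
  rw [T5, T4]
  cases hb : Nat.blt (t4 c) 19530 <;> rw [hb] at h
  · exact absurd h (by simp)
  · exact ⟨Nat.eq_of_beq_eq_true h, Nat.le_of_ble_eq_true hb⟩
def undo6_f : ℕ → Bool := fun c => frc (t7 c) fun d => Bool.rec (motive := fun _ => Bool) false (Nat.beq (t6 d) c) (Nat.blt d 19530)
theorem undo6_0 : rng undo6_f 0 9765 = true := by decide +kernel
theorem undo6_1 : rng undo6_f 9765 9765 = true := by decide +kernel
theorem undo6 (c : ℕ) (hc : c < 19530) : T 6 (T 7 c) = c ∧ T 7 c < 19530 := by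
  have h : undo6_f c = true := by
    rcases Nat.lt_or_ge c 9765 with h | h
    · exact rng_spec undo6_0 c (by omega) (by omega)
    · exact rng_spec undo6_1 c (by omega) (by omega)
  simp only [undo6_f, frc_eq] at h
  rw [T6, T7]
  cases hb : Nat.blt (t7 c) 19530 <;> rw [hb] at h
  · exact absurd h (by simp)
  · exact ⟨Nat.eq_of_beq_eq_true h, Nat.le_of_ble_eq_true hb⟩
def undo7_f : ℕ → Bool := fun c => frc (t6 c) fun d => Bool.rec (motive := fun _ => Bool) false (Nat.beq (t7 d) c) (Nat.blt d 19530)
theorem undo7_0 : rng undo7_f 0 9765 = true := by decide +kernel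
theorem undo7_1 : rng undo7_f 9765 9765 = true := by decide +kernel
theorem undo7 (c : ℕ) (hc : c < 19530) : T 7 (T 6 c) = c ∧ T 6 c < 19530 := by
  have h : undo7_f c = true := by
    rcases Nat.lt_or_ge c 9765 with h | h
    · exact rng_spec undo7_0 c (by omega) (by omega)
    · exact rng_spec undo7_1 c (by omega) (by omega)
  simp only [undo7_f, frc_eq] at h
  rw [T7, T6]
  cases hb : Nat.blt (t6 c) 19530 <;> rw [hb] at h
  · exact absurd h (by simp)
  · exact ⟨Nat.eq_of_beq_eq_true h, Nat.le_of_ble_eq_true hb⟩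
def undo8_f : ℕ → Bool := fun c => frc (t9 c) fun d => Bool.rec (motive := fun _ => Bool) false (Nat.beq (t8 d) c) (Nat.blt d 19530)
theorem undo8_0 : rng undo8_f 0 9765 = true := by decide +kernel
theorem undo8_1 : rng undo8_f 9765 9765 = true := by decide +kernel
theorem undo8 (c : ℕ) (hc : c < 19530) : T 8 (T 9 c) = c ∧ T 9 c < 19530 := by
  have h : undo8_f c = true := by
    rcases Nat.lt_or_ge c 9765 with h | h
    · exact rng_spec undo8_0 c (by omega) (by omega)
    · exact rng_spec undo8_1 c (by omega) (by omega)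
  simp only [undo8_f, frc_eq] at h
  rw [T8, T9]
  cases hb : Nat.blt (t9 c) 19530 <;> rw [hb] at h
  · exact absurd h (by simp)
  · exact ⟨Nat.eq_of_beq_eq_true h, Nat.le_of_ble_eq_true hb⟩
def undo9_f : ℕ → Bool := fun c => frc (t8 c) fun d => Bool.rec (motive := fun _ => Bool) false (Nat.beq (t9 d) c) (Nat.blt d 19530)
theorem undo9_0 : rng undo9_f 0 9765 = true := by decide +kernel
theorem undo9_1 : rng undo9_f 9765 9765 = true := by decide +kernel
theorem undo9 (c : ℕ) (hc : c < 19530) : T 9 (T 8 c) = c ∧ T 8 c < 19530 := by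
  have h : undo9_f c = true := by
    rcases Nat.lt_or_ge c 9765 with h | h
    · exact rng_spec undo9_0 c (by omega) (by omega)
    · exact rng_spec undo9_1 c (by omega) (by omega)
  simp only [undo9_f, frc_eq] at h
  rw [T9, T8]
  cases hb : Nat.blt (t8 c) 19530 <;> rw [hb] at h
  · exact absurd h (by simp)
  · exact ⟨Nat.eq_of_beq_eq_true h, Nat.le_of_ble_eq_true hb⟩
def undo10_f : ℕ → Bool := fun c => frc (t11 c) fun d => Bool.rec (motive := fun _ => Bool) false (Nat.beq (t10 d) c) (Nat.blt d 19530)
theorem undo10_0 : rng undo10_f 0 9765 = true := by decide +kernel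
theorem undo10_1 : rng undo10_f 9765 9765 = true := by decide +kernel
theorem undo10 (c : ℕ) (hc : c < 19530) : T 10 (T 11 c) = c ∧ T 11 c < 19530 := by
  have h : undo10_f c = true := by
    rcases Nat.lt_or_ge c 9765 with h | h
    · exact rng_spec undo10_0 c (by omega) (by omega)
    · exact rng_spec undo10_1 c (by omega) (by omega)
  simp only [undo10_f, frc_eq] at h
  rw [T10, T11]
  cases hb : Nat.blt (t11 c) 19530 <;> rw [hb] at h
  · exact absurd h (by simp)
  · exact ⟨Nat.eq_of_beq_eq_true h, Nat.le_of_ble_eq_true hb⟩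
def undo11_f : ℕ → Bool := fun c => frc (t10 c) fun d => Bool.rec (motive := fun _ => Bool) false (Nat.beq (t11 d) c) (Nat.blt d 19530)
theorem undo11_0 : rng undo11_f 0 9765 = true := by decide +kernel
theorem undo11_1 : rng undo11_f 9765 9765 = true := by decide +kernel
theorem undo11 (c : ℕ) (hc : c < 19530) : T 11 (T 10 c) = c ∧ T 10 c < 19530 := by
  have h : undo11_f c = true := by
    rcases Nat.lt_or_ge c 9765 with h | h
    · exact rng_spec undo11_0 c (by omega) (by omega)
    · exact rng_spec undo11_1 c (by omega) (by omega)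
  simp only [undo11_f, frc_eq] at h
  rw [T11, T10]
  cases hb : Nat.blt (t10 c) 19530 <;> rw [hb] at h
  · exact absurd h (by simp)
  · exact ⟨Nat.eq_of_beq_eq_true h, Nat.le_of_ble_eq_true hb⟩
def undo12_f : ℕ → Bool := fun c => frc (t13 c) fun d => Bool.rec (motive := fun _ => Bool) false (Nat.beq (t12 d) c) (Nat.blt d 19530)
theorem undo12_0 : rng undo12_f 0 9765 = true := by decide +kernel
theorem undo12_1 : rng undo12_f 9765 9765 = true := by decide +kernel
theorem undo12 (c : ℕ) (hc : c < 19530) : T 12 (T 13 c) = c ∧ T 13 c < 19530 := by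
  have h : undo12_f c = true := by
    rcases Nat.lt_or_ge c 9765 with h | h
    · exact rng_spec undo12_0 c (by omega) (by omega)
    · exact rng_spec undo12_1 c (by omega) (by omega)
  simp only [undo12_f, frc_eq] at h
  rw [T12, T13]
  cases hb : Nat.blt (t13 c) 19530 <;> rw [hb] at h
  · exact absurd h (by simp)
  · exact ⟨Nat.eq_of_beq_eq_true h, Nat.le_of_ble_eq_true hb⟩
def undo13_f : ℕ → Bool := fun c => frc (t12 c) fun d => Bool.rec (motive := fun _ => Bool) false (Nat.beq (t13 d) c) (Nat.blt d 19530)
theorem undo13_0 : rng undo13_f 0 9765 = true := by decide +kernel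
theorem undo13_1 : rng undo13_f 9765 9765 = true := by decide +kernel
theorem undo13 (c : ℕ) (hc : c < 19530) : T 13 (T 12 c) = c ∧ T 12 c < 19530 := by
  have h : undo13_f c = true := by
    rcases Nat.lt_or_ge c 9765 with h | h
    · exact rng_spec undo13_0 c (by omega) (by omega)
    · exact rng_spec undo13_1 c (by omega) (by omega)
  simp only [undo13_f, frc_eq] at h
  rw [T13, T12]
  cases hb : Nat.blt (t12 c) 19530 <;> rw [hb] at h
  · exact absurd h (by simp)
  · exact ⟨Nat.eq_of_beq_eq_true h, Nat.le_of_ble_eq_true hb⟩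
def undo14_f : ℕ → Bool := fun c => frc (t15 c) fun d => Bool.rec (motive := fun _ => Bool) false (Nat.beq (t14 d) c) (Nat.blt d 19530)
theorem undo14_0 : rng undo14_f 0 9765 = true := by decide +kernel
theorem undo14_1 : rng undo14_f 9765 9765 = true := by decide +kernel
theorem undo14 (c : ℕ) (hc : c < 19530) : T 14 (T 15 c) = c ∧ T 15 c < 19530 := by
  have h : undo14_f c = true := by
    rcases Nat.lt_or_ge c 9765 with h | h
    · exact rng_spec undo14_0 c (by omega) (by omega)
    · exact rng_spec undo14_1 c (by omega) (by omega)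
  simp only [undo14_f, frc_eq] at h
  rw [T14, T15]
  cases hb : Nat.blt (t15 c) 19530 <;> rw [hb] at h
  · exact absurd h (by simp)
  · exact ⟨Nat.eq_of_beq_eq_true h, Nat.le_of_ble_eq_true hb⟩
def undo15_f : ℕ → Bool := fun c => frc (t14 c) fun d => Bool.rec (motive := fun _ => Bool) false (Nat.beq (t15 d) c) (Nat.blt d 19530)
theorem undo15_0 : rng undo15_f 0 9765 = true := by decide +kernel
theorem undo15_1 : rng undo15_f 9765 9765 = true := by decide +kernel
theorem undo15 (c : ℕ) (hc : c < 19530) : T 15 (T 14 c) = c ∧ T 14 c < 19530 := by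
  have h : undo15_f c = true := by
    rcases Nat.lt_or_ge c 9765 with h | h
    · exact rng_spec undo15_0 c (by omega) (by omega)
    · exact rng_spec undo15_1 c (by omega) (by omega)
  simp only [undo15_f, frc_eq] at h
  rw [T15, T14]
  cases hb : Nat.blt (t14 c) 19530 <;> rw [hb] at h
  · exact absurd h (by simp)
  · exact ⟨Nat.eq_of_beq_eq_true h, Nat.le_of_ble_eq_true hb⟩
def undo16_f : ℕ → Bool := fun c => frc (t17 c) fun d => Bool.rec (motive := fun _ => Bool) false (Nat.beq (t16 d) c) (Nat.blt d 19530)
theorem undo16_0 : rng undo16_f 0 9765 = true := by decide +kernel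
theorem undo16_1 : rng undo16_f 9765 9765 = true := by decide +kernel
theorem undo16 (c : ℕ) (hc : c < 19530) : T 16 (T 17 c) = c ∧ T 17 c < 19530 := by
  have h : undo16_f c = true := by
    rcases Nat.lt_or_ge c 9765 with h | h
    · exact rng_spec undo16_0 c (by omega) (by omega)
    · exact rng_spec undo16_1 c (by omega) (by omega)
  simp only [undo16_f, frc_eq] at h
  rw [T16, T17]
  cases hb : Nat.blt (t17 c) 19530 <;> rw [hb] at h
  · exact absurd h (by simp)
  · exact ⟨Nat.eq_of_beq_eq_true h, Nat.le_of_ble_eq_true hb⟩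
def undo17_f : ℕ → Bool := fun c => frc (t16 c) fun d => Bool.rec (motive := fun _ => Bool) false (Nat.beq (t17 d) c) (Nat.blt d 19530)
theorem undo17_0 : rng undo17_f 0 9765 = true := by decide +kernel
theorem undo17_1 : rng undo17_f 9765 9765 = true := by decide +kernel
theorem undo17 (c : ℕ) (hc : c < 19530) : T 17 (T 16 c) = c ∧ T 16 c < 19530 := by
  have h : undo17_f c = true := by
    rcases Nat.lt_or_ge c 9765 with h | h
    · exact rng_spec undo17_0 c (by omega) (by omega)
    · exact rng_spec undo17_1 c (by omega) (by omega)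
  simp only [undo17_f, frc_eq] at h
  rw [T17, T16]
  cases hb : Nat.blt (t16 c) 19530 <;> rw [hb] at h
  · exact absurd h (by simp)
  · exact ⟨Nat.eq_of_beq_eq_true h, Nat.le_of_ble_eq_true hb⟩
def undo18_f : ℕ → Bool := fun c => frc (t19 c) fun d => Bool.rec (motive := fun _ => Bool) false (Nat.beq (t18 d) c) (Nat.blt d 19530)
theorem undo18_0 : rng undo18_f 0 9765 = true := by decide +kernel
theorem undo18_1 : rng undo18_f 9765 9765 = true := by decide +kernel
theorem undo18 (c : ℕ) (hc : c < 19530) : T 18 (T 19 c) = c ∧ T 19 c < 19530 := by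
  have h : undo18_f c = true := by
    rcases Nat.lt_or_ge c 9765 with h | h
    · exact rng_spec undo18_0 c (by omega) (by omega)
    · exact rng_spec undo18_1 c (by omega) (by omega)
  simp only [undo18_f, frc_eq] at h
  rw [T18, T19]
  cases hb : Nat.blt (t19 c) 19530 <;> rw [hb] at h
  · exact absurd h (by simp)
  · exact ⟨Nat.eq_of_beq_eq_true h, Nat.le_of_ble_eq_true hb⟩
def undo19_f : ℕ → Bool := fun c => frc (t18 c) fun d => Bool.rec (motive := fun _ => Bool) false (Nat.beq (t19 d) c) (Nat.blt d 19530)
theorem undo19_0 : rng undo19_f 0 9765 = true := by decide +kernel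
theorem undo19_1 : rng undo19_f 9765 9765 = true := by decide +kernel
theorem undo19 (c : ℕ) (hc : c < 19530) : T 19 (T 18 c) = c ∧ T 18 c < 19530 := by
  have h : undo19_f c = true := by
    rcases Nat.lt_or_ge c 9765 with h | h
    · exact rng_spec undo19_0 c (by omega) (by omega)
    · exact rng_spec undo19_1 c (by omega) (by omega)
  simp only [undo19_f, frc_eq] at h
  rw [T19, T18]
  cases hb : Nat.blt (t18 c) 19530 <;> rw [hb] at h
  · exact absurd h (by simp)
  · exact ⟨Nat.eq_of_beq_eq_true h, Nat.le_of_ble_eq_true hb⟩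
def undo20_f : ℕ → Bool := fun c => frc (t21 c) fun d => Bool.rec (motive := fun _ => Bool) false (Nat.beq (t20 d) c) (Nat.blt d 19530)
theorem undo20_0 : rng undo20_f 0 9765 = true := by decide +kernel
theorem undo20_1 : rng undo20_f 9765 9765 = true := by decide +kernel
theorem undo20 (c : ℕ) (hc : c < 19530) : T 20 (T 21 c) = c ∧ T 21 c < 19530 := by
  have h : undo20_f c = true := by
    rcases Nat.lt_or_ge c 9765 with h | h
    · exact rng_spec undo20_0 c (by omega) (by omega)
    · exact rng_spec undo20_1 c (by omega) (by omega)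
  simp only [undo20_f, frc_eq] at h
  rw [T20, T21]
  cases hb : Nat.blt (t21 c) 19530 <;> rw [hb] at h
  · exact absurd h (by simp)
  · exact ⟨Nat.eq_of_beq_eq_true h, Nat.le_of_ble_eq_true hb⟩
def undo21_f : ℕ → Bool := fun c => frc (t20 c) fun d => Bool.rec (motive := fun _ => Bool) false (Nat.beq (t21 d) c) (Nat.blt d 19530)
theorem undo21_0 : rng undo21_f 0 9765 = true := by decide +kernel
theorem undo21_1 : rng undo21_f 9765 9765 = true := by decide +kernel
theorem undo21 (c : ℕ) (hc : c < 19530) : T 21 (T 20 c) = c ∧ T 20 c < 19530 := by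
  have h : undo21_f c = true := by
    rcases Nat.lt_or_ge c 9765 with h | h
    · exact rng_spec undo21_0 c (by omega) (by omega)
    · exact rng_spec undo21_1 c (by omega) (by omega)
  simp only [undo21_f, frc_eq] at h
  rw [T21, T20]
  cases hb : Nat.blt (t20 c) 19530 <;> rw [hb] at h
  · exact absurd h (by simp)
  · exact ⟨Nat.eq_of_beq_eq_true h, Nat.le_of_ble_eq_true hb⟩
end

end Data
end Ly
end H23
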